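import Cfsg.Agent.K94.Section

/-!
# Complete reducibility of the section
-/

set_option autoImplicit false
set_option linter.style.haveILetI false

namespace Cfsg.Agent.K94

open Cfsg.Agent.BC85 Cfsg.Agent.BC85.BaseTwo
open scoped commutatorElement

variable {H : Type} [Group H] [Finite H] {U : Subgroup H} [U.Normal] {N : Subgroup H}

/-- The section is abelian. -/
@[reducible] noncomputable def secCommGroup (hN : IsSec U N) :
    CommGroup (N.map (QuotientGroup.mk' U)) :=
  { (inferInstance : Group (N.map (QuotientGroup.mk' U))) with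
    mul_comm := fun a b => by
      apply Subtype.ext
      show (a : H ⧸ U) * b = b * a
      rw [← mk_out a, ← mk_out b, ← commutatorElement_eq_one_iff_mul_comm, ← map_commutatorElement]
      exact (QuotientGroup.eq_one_iff _).mpr (omega_mem hN a b) }

/-- Conjugation as an action on the section. -/
@[reducible] noncomputable def secAct (hN : IsSec U N) :
    letI := secCommGroup hN
    DistribMulAction H (Additive (N.map (QuotientGroup.mk' U))) :=
  letI := secCommGroup hN
  { smul := fun h x => Additive.ofMul (secMap hN h x.toMul)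
    one_smul := fun x => congrArg Additive.ofMul (secMap_one hN x.toMul)
    mul_smul := fun a b x => congrArg Additive.ofMul (secMap_mul hN a b x.toMul)
    smul_zero := fun h => congrArg Additive.ofMul (map_one (secMap hN h))
    smul_add := fun h x y => congrArg Additive.ofMul (map_mul (secMap hN h) x.toMul y.toMul) }

theorem sec_cr (hN : IsSec U N) :
    letI := secCommGroup hN
    letI := secAct hN
    CR H (Additive (N.map (QuotientGroup.mk' U))) := by
  classical
  set π := QuotientGroup.mk' U with hπ
  haveI := hN.normal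
  haveI hEn : (N.map π).Normal :=
    Subgroup.Normal.map inferInstance π (QuotientGroup.mk'_surjective U)
  have hcom : ∀ a ∈ N.map π, ∀ b ∈ N.map π, a * b = b * a := by
    rintro _ ⟨a, ha, rfl⟩ _ ⟨b, hb, rfl⟩
    rw [← commutatorElement_eq_one_iff_mul_comm, ← map_commutatorElement, hπ,
      QuotientGroup.mk'_apply, QuotientGroup.eq_one_iff]
    exact hN.comm a ha b hb
  letI := secCommGroup hN
  letI := secAct hN
  have hsm : ∀ (h : H) (x : Additive (N.map π)),
      ((Additive.toMul (h • x) : N.map π) : H ⧸ U) =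
        π h * (Additive.toMul x : N.map π) * (π h)⁻¹ := fun h x => rfl
  have hUker : ∀ u ∈ U, π u = 1 := fun u hu => (QuotientGroup.eq_one_iff u).mpr hu
  show CR H (Additive (N.map π))
  intro X hX
  let W : Subgroup H :=
    { carrier := {g | ∃ h : π g ∈ N.map π, Additive.ofMul (⟨π g, h⟩ : N.map π) ∈ X}
      one_mem' := ⟨by rw [map_one]; exact one_mem _, by
        convert X.zero_mem using 1
        exact congrArg Additive.ofMul (Subtype.ext (map_one π))⟩
      mul_mem' := by
        rintro a b ⟨ha, ha'⟩ ⟨hb, hb'⟩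
        refine ⟨by rw [map_mul]; exact mul_mem ha hb, ?_⟩
        convert X.add_mem ha' hb' using 1
        exact congrArg Additive.ofMul (Subtype.ext (map_mul π a b))
      inv_mem' := by
        rintro a ⟨ha, ha'⟩
        refine ⟨by rw [map_inv]; exact inv_mem ha, ?_⟩
        convert X.neg_mem ha' using 1
        exact congrArg Additive.ofMul (Subtype.ext (map_inv π a)) }
  have hWn : W.Normal := by
    refine ⟨?_⟩
    rintro a ⟨ha, ha'⟩ g
    refine ⟨by rw [map_mul, map_mul, map_inv]; exact hEn.conj_mem _ ha _, ?_⟩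
    convert hX g _ ha' using 1
    apply Additive.toMul.injective
    apply Subtype.ext
    rw [hsm]
    show π (g * a * g⁻¹) = _
    rw [map_mul, map_mul, map_inv]
    rfl
  have hUW : U ≤ W := fun u hu => ⟨by rw [hUker u hu]; exact one_mem _, by
    convert X.zero_mem using 1
    exact congrArg Additive.ofMul (Subtype.ext (hUker u hu))⟩
  have hWN : W ≤ N := by
    rintro a ⟨⟨b, hb, he⟩, -⟩
    have h1 : b⁻¹ * a ∈ U := (QuotientGroup.eq.mp he)
    have h2 := N.mul_mem hb (hN.le h1)
    rwa [mul_inv_cancel_left] at h2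
  obtain ⟨W', hW'n, hUW', hW'N, hinf, hsup⟩ := hN.compl W hWn hUW hWN
  let Y : AddSubgroup (Additive (N.map π)) :=
    { carrier := {x | ((Additive.toMul x : N.map π) : H ⧸ U) ∈ W'.map π}
      zero_mem' := (W'.map π).one_mem
      add_mem' := fun {a b} ha hb => (W'.map π).mul_mem ha hb
      neg_mem' := fun {a} ha => (W'.map π).inv_mem ha }
  refine ⟨Y, ?_, ?_, ?_⟩
  · intro h x hx
    show _ ∈ W'.map π
    rw [hsm]
    exact (Subgroup.Normal.map hW'n π (QuotientGroup.mk'_surjective U)).conj_mem _ hx _
  · refine le_bot_iff.mp ?_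
    rintro x ⟨hx, a, ha, he⟩
    rw [AddSubgroup.mem_bot]
    apply Additive.toMul.injective
    apply Subtype.ext
    have haW : a ∈ W := by
      have hm : π a ∈ N.map π := by rw [he]; exact (Additive.toMul x).2
      refine ⟨hm, ?_⟩
      have e1 : (⟨π a, hm⟩ : N.map π) = Additive.toMul x := Subtype.ext he
      rw [e1]
      exact hx
    have haU : a ∈ U := hinf ▸ (⟨haW, ha⟩ : a ∈ W ⊓ W')
    rw [← he, hUker a haU]
    rfl
  · refine eq_top_iff.mpr fun x _ => ?_
    obtain ⟨n, hn, hnx⟩ := (Additive.toMul x).2
    haveI := hW'n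
    obtain ⟨w, hw, w', hw', rfl⟩ :=
      Subgroup.mem_sup_of_normal_right.mp (hsup.symm ▸ hn : n ∈ W ⊔ W')
    obtain ⟨hwE, hwX⟩ := hw
    refine AddSubgroup.mem_sup.mpr ⟨_, hwX,
      Additive.ofMul (⟨π w', Subgroup.mem_map_of_mem π (hW'N hw')⟩ : N.map π),
      Subgroup.mem_map_of_mem π hw', ?_⟩
    apply Additive.toMul.injective
    apply Subtype.ext
    show π w * π w' = _
    rw [← map_mul]
    exact hnx

/-- The section of prime power order has prime exponent. -/
theorem sec_exponent (hN : IsSec U N) {q j : ℕ} [Fact q.Prime] (hq : U.relIndex N = q ^ j)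
    (x : N.map (QuotientGroup.mk' U)) : x ^ q = 1 := by
  letI := secCommGroup hN
  letI := secAct hN
  have hcard : Nat.card (Additive (N.map (QuotientGroup.mk' U))) = q ^ j :=
    (Nat.card_congr Additive.toMul).trans (card_section.trans hq)
  exact congrArg Additive.toMul (smul_prime_eq_zero (sec_cr hN) hcard (Additive.ofMul x))

/-- A group of `q`-elements cannot act on a section of `q`-power order. -/
theorem top_le_of_pgroup (hN : IsSec U N) (hC : Subgroup.centralizer (U : Set H) = ⊤) {q j : ℕ}
    [Fact q.Prime] (hq : U.relIndex N = q ^ j) (hp : ∀ g : H, ∃ k : ℕ, g ^ q ^ k ∈ N) :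
    N = ⊤ := by
  haveI := hN.normal
  letI := secCommGroup hN
  letI := secAct hN
  have hcard : Nat.card (Additive (N.map (QuotientGroup.mk' U))) = q ^ j :=
    (Nat.card_congr Additive.toMul).trans (card_section.trans hq)
  have hNker : N ≤ BaseTwo.ker H (Additive (N.map (QuotientGroup.mk' U))) := by
    intro n hn
    rw [mem_ker]
    intro x
    refine Additive.toMul.injective (Subtype.ext ?_)
    show QuotientGroup.mk' U n * (x.toMul : H ⧸ U) * (QuotientGroup.mk' U n)⁻¹ = _
    rw [mul_inv_eq_iff_eq_mul, ← mk_out x.toMul, ← commutatorElement_eq_one_iff_mul_comm,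
      ← map_commutatorElement]
    exact (QuotientGroup.eq_one_iff _).mpr (hN.comm n hn _ (out_mem hN _))
  set K := BaseTwo.ker H (Additive (N.map (QuotientGroup.mk' U)))
  have hQ : IsPGroup q ((⊤ : Subgroup H).map (QuotientGroup.mk' K)) := by
    rintro ⟨_, g, -, rfl⟩
    obtain ⟨k, hk⟩ := hp g
    refine ⟨k, Subtype.ext ?_⟩
    show (QuotientGroup.mk' K g) ^ q ^ k = 1
    rw [← map_pow]
    exact (QuotientGroup.eq_one_iff _).mpr (hNker hk)
  have hbot := no_normal_pgroup (sec_cr hN) hcard (⊤ : Subgroup H)
    (⊤ : Subgroup ((⊤ : Subgroup H).map (QuotientGroup.mk' K))) inferInstance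
    (hQ.of_injective (Subgroup.subtype _) Subtype.val_injective)
  refine top_le_iff.mp fun g _ => mem_of_secMap_id hN (hC ▸ Subgroup.mem_top g) fun x => ?_
  have h1 : (⟨_, Subgroup.mem_map_of_mem (QuotientGroup.mk' K) (Subgroup.mem_top g)⟩ :
      (⊤ : Subgroup H).map (QuotientGroup.mk' K)) ∈ (⊥ : Subgroup _) := hbot ▸ Subgroup.mem_top _
  have h2 : g ∈ K := (QuotientGroup.eq_one_iff g).mp (congrArg Subtype.val (Subgroup.mem_bot.mp h1))
  exact congrArg Additive.toMul (mem_ker.mp h2 (Additive.ofMul x))

/-- Three points detect, the first nontrivial, hence the saving of a factor two. -/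
theorem relIndex_le_cube_half [Group.IsSolvable H] (hN : IsSec U N) :
    N.relIndex (Subgroup.centralizer (U : Set H)) * 2 ≤ U.relIndex N ^ 3 := by
  classical
  letI := secCommGroup hN
  letI := secAct hN
  haveI : Fintype (N.map (QuotientGroup.mk' U)) := Fintype.ofFinite _
  obtain ⟨t, ht⟩ := BaseThree.lin3_all (Nat.card (Additive (N.map (QuotientGroup.mk' U))))
    (Additive (N.map (QuotientGroup.mk' U))) H le_rfl inferInstance (sec_cr hN)
  let x : Fin 3 → N.map (QuotientGroup.mk' U) := fun i => (t i).toMul
  have hdet : ∀ a b : Subgroup.centralizer (U : Set H),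
      (∀ i, secMap hN a (x i) = secMap hN b (x i)) → (a : H)⁻¹ * b ∈ N := by
    intro a b h
    refine mem_of_secMap_id hN
      ((Subgroup.centralizer _).mul_mem ((Subgroup.centralizer _).inv_mem a.2) b.2) fun y => ?_
    have h1 := ht ((a : H)⁻¹ * b) fun i => congrArg Additive.ofMul (inv_mul_fix hN (h i))
    exact congrArg Additive.toMul (h1 (Additive.ofMul y))
  rw [← card_section (U := U) (N := N)]
  have hE2 : 2 ≤ Nat.card (N.map (QuotientGroup.mk' U)) := by
    rw [card_section]
    have h0 : U.relIndex N ≠ 0 := Subgroup.index_ne_zero_of_finite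
    have h1 : U.relIndex N ≠ 1 := fun h => hN.ne
      (le_antisymm (Subgroup.relIndex_eq_one.mp h) hN.le)
    omega
  by_cases h0 : x 0 = 1
  · have h := relIndex_le_card hN (T := (N.map (QuotientGroup.mk' U)) × (N.map (QuotientGroup.mk' U))) (fun g => (secMap hN g (x 1), secMap hN g (x 2)))
      fun a b h => hdet a b fun i => by
        fin_cases i
        · simp only [Fin.zero_eta, h0, map_one]
        · exact congrArg Prod.fst h
        · exact congrArg Prod.snd h
    rw [Nat.card_prod] at h
    calc _ ≤ Nat.card (N.map (QuotientGroup.mk' U)) * Nat.card (N.map (QuotientGroup.mk' U)) * Nat.card (N.map (QuotientGroup.mk' U)) := Nat.mul_le_mul h hE2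
      _ = _ := by ring
  · let f : Subgroup.centralizer (U : Set H) →
        (Σ a : {a : (N.map (QuotientGroup.mk' U)) // a ≠ 1}, {b // omega U N a.1 b = omega U N (x 0) (x 1)}) × (N.map (QuotientGroup.mk' U)) :=
      fun g => (⟨⟨secMap hN g (x 0), secMap_ne_one hN g h0⟩,
        ⟨secMap hN g (x 1), omega_secMap hN g.2 _ _⟩⟩, secMap hN g (x 2))
    have h := relIndex_le_card hN f fun a b h => hdet a b fun i => by
      fin_cases i
      · exact congrArg (fun s => s.1.1.1) h
      · exact congrArg (fun s => s.1.2.1) h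
      · exact congrArg (fun s => s.2) h
    rw [Nat.card_prod, Nat.card_sigma] at h
    have hs : (∑ a : {a : (N.map (QuotientGroup.mk' U)) // a ≠ 1}, Nat.card {b // omega U N a.1 b = omega U N (x 0) (x 1)}) * 2 ≤
        Nat.card (N.map (QuotientGroup.mk' U)) * Nat.card (N.map (QuotientGroup.mk' U)) := by
      rw [Finset.sum_mul]
      refine (Finset.sum_le_card_nsmul _ _ (Nat.card (N.map (QuotientGroup.mk' U))) fun a _ => ?_).trans ?_
      · obtain ⟨i, hi2, -, hle⟩ := card_fibre hN a.2 (omega U N (x 0) (x 1))
        exact (Nat.mul_le_mul_left _ hi2).trans hle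
      · rw [smul_eq_mul, Finset.card_univ]
        refine Nat.mul_le_mul_right _ ?_
        rw [Nat.card_eq_fintype_card]
        exact Fintype.card_subtype_le _
    calc _ ≤ _ := Nat.mul_le_mul_right 2 h
      _ ≤ Nat.card (N.map (QuotientGroup.mk' U)) * Nat.card (N.map (QuotientGroup.mk' U)) * Nat.card (N.map (QuotientGroup.mk' U)) := by
        rw [mul_right_comm]
        exact Nat.mul_le_mul_right _ hs
      _ = _ := by ring

end Cfsg.Agent.K94
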