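import Cfsg.Agent.K94.SecCR
import Cfsg.Agent.Lib.LinearGroup.Sp42
import Mathlib.LinearAlgebra.SymplecticGroup

/-!
# Sections of order sixteen
-/

set_option autoImplicit false
set_option maxHeartbeats 200000
set_option linter.style.haveILetI false

namespace Cfsg.Agent.K94

open Cfsg.Agent.BC85 Cfsg.Agent.BC85.BaseTwo
open scoped commutatorElement

theorem six_ne : (Equiv.swap 0 1 * Equiv.swap 1 2 : Equiv.Perm (Fin 6)) * (Equiv.swap 0 1 * Equiv.swap 1 3) ≠
    (Equiv.swap 0 1 * Equiv.swap 1 3) * (Equiv.swap 0 1 * Equiv.swap 1 2) := by decide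

theorem J_entry : ∀ i j : Fin 2 ⊕ Fin 2,
    Matrix.J (Fin 2) (ZMod 2) i j = if j = Sum.swap i then 1 else 0 := by
  have hneg : (-1 : ZMod 2) = 1 := by decide
  rintro (i | i) (j | j) <;> fin_cases i <;> fin_cases j <;> simp [Matrix.J, hneg]

/-- Solvable groups inside the symmetric group of degree six. -/
theorem card_solvable_six {Q : Type*} [Group Q] [Finite Q] (hQ : Group.IsSolvable Q)
    (f : Q →* Equiv.Perm (Fin 6)) (hf : Function.Injective f) : Nat.card Q ≤ 144 := by
  classical
  haveI := hQ
  by_contra hlt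
  push Not at hlt
  have hR : Nat.card f.range = Nat.card Q := Nat.card_congr (MonoidHom.ofInjective hf).toEquiv.symm
  haveI : Group.IsSolvable f.range := Group.isSolvable_of_surjective f.rangeRestrict_surjective
  have hmul := f.range.card_mul_index
  have h720 : Nat.card (Equiv.Perm (Fin 6)) = 720 := by
    rw [Nat.card_perm, Nat.card_fin]; rfl
  rw [hR, h720] at hmul
  have hidx : f.range.index ≤ 4 := by
    by_contra h
    push Not at h
    have h1 := Nat.mul_le_mul (show 145 ≤ Nat.card Q by omega) (show 5 ≤ f.range.index by omega)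
    omega
  have hA : alternatingGroup (Fin 6) ≤ f.range := by
    let φ : alternatingGroup (Fin 6) →* Equiv.Perm (Equiv.Perm (Fin 6) ⧸ f.range) :=
      (MulAction.toPermHom _ _).comp (alternatingGroup (Fin 6)).subtype
    haveI : IsSimpleGroup (alternatingGroup (Fin 6)) := alternatingGroup.isSimpleGroup (by norm_num)
    rcases (inferInstance : φ.ker.Normal).eq_bot_or_eq_top with h | h
    · exfalso
      have hi := Nat.card_le_card_of_injective φ ((MonoidHom.ker_eq_bot_iff φ).mp h)
      rw [Nat.card_perm, ← Subgroup.index_eq_card] at hi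
      have h360 : 2 * Nat.card (alternatingGroup (Fin 6)) = 720 := by
        rw [two_mul_nat_card_alternatingGroup, h720]
      have := Nat.factorial_le hidx
      rw [show Nat.factorial 4 = 24 from rfl] at this
      omega
    · intro g hg
      have h1 : φ ⟨g, hg⟩ = 1 := MonoidHom.mem_ker.mp (h ▸ Subgroup.mem_top _)
      have h2 := Equiv.ext_iff.mp h1 ((1 : Equiv.Perm (Fin 6)) : Equiv.Perm (Fin 6) ⧸ f.range)
      have h3 : ((g * 1 : Equiv.Perm (Fin 6)) : Equiv.Perm (Fin 6) ⧸ f.range) =
          ((1 : Equiv.Perm (Fin 6)) : Equiv.Perm (Fin 6) ⧸ f.range) := h2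
      rw [mul_one, eq_comm, QuotientGroup.eq, inv_one, one_mul] at h3
      exact h3
  haveI : Group.IsSolvable (alternatingGroup (Fin 6)) :=
    Group.isSolvable_of_isSolvable_injective (f := Subgroup.inclusion hA) (Subgroup.inclusion_injective hA)
  haveI : IsSimpleGroup (alternatingGroup (Fin 6)) := alternatingGroup.isSimpleGroup (by norm_num)
  have hcomm := IsSimpleGroup.comm_iff_isSolvable.mpr (inferInstance : Group.IsSolvable (alternatingGroup (Fin 6)))
  exact six_ne (congrArg Subtype.val (hcomm
    ⟨Equiv.swap 0 1 * Equiv.swap 1 2, Equiv.Perm.mem_alternatingGroup.mpr (by simp)⟩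
    ⟨Equiv.swap 0 1 * Equiv.swap 1 3, Equiv.Perm.mem_alternatingGroup.mpr (by simp)⟩))

/-- Bilinear coordinates. -/
theorem symp_card_le {H : Type} [Group H] [Finite H] [Group.IsSolvable H] {U : Subgroup H} [U.Normal]
    {N : Subgroup H} {K : Type} [Field K] (ι : U →* Kˣ) (hι : Function.Injective ι)
    (hN : IsSec U N) (hidx : U.relIndex N = 16) :
    N.relIndex (Subgroup.centralizer (U : Set H)) ≤ 144 := by
  classical
  haveI := hN.normal
  letI := secCommGroup hN
  have hexp : ∀ x : N.map (QuotientGroup.mk' U), x ^ 2 = 1 :=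
    sec_exponent hN (q := 2) (j := 4) (by rw [hidx]; norm_num)
  have hcard : Nat.card (N.map (QuotientGroup.mk' U)) = 16 := card_section.trans hidx
  have hone : ∀ x : N.map (QuotientGroup.mk' U), omega U N x 1 = 1 := fun x => by
    have h := omega_mul_right hN x 1 1
    rw [one_mul] at h
    exact mul_eq_left.mp h.symm
  have hsq : ∀ x y, omega U N x y * omega U N x y = 1 := fun x y => by
    rw [← omega_mul_right hN, ← pow_two, hexp, hone]
  have huniq : ∀ x y x' y', omega U N x y ≠ 1 → omega U N x' y' ≠ 1 →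
      omega U N x y = omega U N x' y' := by
    intro x y x' y' h h'
    have key : ∀ a b, omega U N a b ≠ 1 → (ι ⟨omega U N a b, omega_mem hN a b⟩ : K) = -1 := by
      intro a b hab
      have h2 : (ι ⟨omega U N a b, omega_mem hN a b⟩ : K) * ι ⟨omega U N a b, omega_mem hN a b⟩ = 1 := by
        rw [← Units.val_mul, ← map_mul, show (⟨omega U N a b, omega_mem hN a b⟩ : U) *
          ⟨omega U N a b, omega_mem hN a b⟩ = 1 from Subtype.ext (hsq a b), map_one, Units.val_one]
      rcases mul_self_eq_one_iff.mp h2 with h3 | h3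
      · exact absurd (congrArg Subtype.val (hι ((Units.ext h3).trans (map_one ι).symm))) hab
      · exact h3
    exact congrArg Subtype.val (hι (Units.ext ((key x y h).trans (key x' y' h').symm)))
  let β : N.map (QuotientGroup.mk' U) → N.map (QuotientGroup.mk' U) → ZMod 2 := fun x y =>
    if omega U N x y = 1 then 0 else 1
  have hβr : ∀ x y y', β x (y * y') = β x y + β x y' := by
    intro x y y'
    simp only [β]
    rw [omega_mul_right hN]
    by_cases h : omega U N x y = 1
    · simp [h]
    by_cases h' : omega U N x y' = 1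
    · simp [h, h']
    · rw [← huniq x y x y' h h', hsq]
      simp [h, h']
      decide
  have hβs : ∀ x y, β y x = β x y := by
    intro x y
    simp only [β, omega_swap (U := U) (N := N) x y, inv_eq_one]
  have hβ1 : ∀ x, β x 1 = 0 := fun x => by simp [β, hone x]
  have hβxx : ∀ x, β x x = 0 := fun x => by simp [β, omega, commutatorElement_self]
  -- a symplectic basis
  haveI : Nontrivial (N.map (QuotientGroup.mk' U)) :=
    Finite.one_lt_card_iff_nontrivial.mp (by rw [hcard]; norm_num)
  obtain ⟨a, ha⟩ := exists_ne (1 : N.map (QuotientGroup.mk' U))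
  obtain ⟨b, hb⟩ := omega_nondeg hN ha
  have hab : β a b = 1 := by simp [β, hb]
  let φ : N.map (QuotientGroup.mk' U) →* Multiplicative (ZMod 2 × ZMod 2) :=
    MonoidHom.mk' (fun y => Multiplicative.ofAdd (β a y, β b y)) fun y y' => by
      show Multiplicative.ofAdd _ = Multiplicative.ofAdd ((β a y, β b y) + (β a y', β b y'))
      rw [Prod.mk_add_mk, hβr, hβr]
  have hker : 4 ≤ Nat.card φ.ker := by
    have h1 := φ.ker.card_mul_index
    have h2 : φ.ker.index ≤ 4 := by
      rw [Subgroup.index_ker]
      exact (Subgroup.card_le_card_group _).trans (le_of_eq (by simp))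
    rw [hcard] at h1
    nlinarith
  haveI : Nontrivial φ.ker := Finite.one_lt_card_iff_nontrivial.mp (by omega)
  obtain ⟨⟨c, hc⟩, hc0⟩ := exists_ne (1 : φ.ker)
  have hc1 : c ≠ 1 := fun h => hc0 (Subtype.ext h)
  have hc' : (β a c, β b c) = ((0 : ZMod 2), (0 : ZMod 2)) :=
    Multiplicative.ofAdd.injective (MonoidHom.mem_ker.mp hc)
  have hac : β a c = 0 := congrArg Prod.fst hc'
  have hbc : β b c = 0 := congrArg Prod.snd hc'
  obtain ⟨d₀, hd₀⟩ := omega_nondeg hN hc1
  have hcd₀ : β c d₀ = 1 := by simp [β, hd₀]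
  let d : N.map (QuotientGroup.mk' U) :=
    d₀ * (if β a d₀ = 0 then 1 else b) * (if β b d₀ = 0 then 1 else a)
  have h01 : ∀ z : ZMod 2, z = 0 ∨ z = 1 := by decide
  have had : β a d = 0 := by
    simp only [d, hβr]
    rcases h01 (β a d₀) with h | h <;> rcases h01 (β b d₀) with h' | h' <;>
      simp [h, h', hβ1, hab, hβxx] <;> decide
  have hbd : β b d = 0 := by
    have hba : β b a = 1 := (hβs a b).trans hab
    simp only [d, hβr]
    rcases h01 (β a d₀) with h | h <;> rcases h01 (β b d₀) with h' | h' <;>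
      simp [h, h', hβ1, hba, hβxx] <;> decide
  have hcd : β c d = 1 := by
    have hca : β c a = 0 := (hβs a c).trans hac
    have hcb : β c b = 0 := (hβs b c).trans hbc
    simp only [d, hβr]
    rcases h01 (β a d₀) with h | h <;> rcases h01 (β b d₀) with h' | h' <;>
      simp [h, h', hβ1, hcd₀, hca, hcb]
  -- coordinates
  let e : Fin 2 ⊕ Fin 2 → N.map (QuotientGroup.mk' U) := Sum.elim ![a, c] ![b, d]
  let e' : Fin 2 ⊕ Fin 2 → N.map (QuotientGroup.mk' U) := Sum.elim ![b, d] ![a, c]
  let ψ : Additive (N.map (QuotientGroup.mk' U)) →+ (Fin 2 ⊕ Fin 2 → ZMod 2) :=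
    AddMonoidHom.mk' (fun x i => β (e' i) x.toMul) fun x y => funext fun i => hβr _ _ _
  have hba : β b a = 1 := (hβs a b).trans hab
  have hdc : β d c = 1 := (hβs c d).trans hcd
  have hca : β c a = 0 := (hβs a c).trans hac
  have hcb : β c b = 0 := (hβs b c).trans hbc
  have hda : β d a = 0 := (hβs a d).trans had
  have hdb : β d b = 0 := (hβs b d).trans hbd
  have hψe : ∀ i, ψ (Additive.ofMul (e i)) = Pi.single i 1 := by
    intro i
    funext j
    show β (e' j) (e i) = _
    rcases i with i | i <;> rcases j with j | j <;> fin_cases i <;> fin_cases j <;>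
      simp [e, e', hab, hba, hcd, hdc, hac, hca, hbc, hcb, had, hda, hbd, hdb, hβxx, Pi.single_apply]
  have hψs : Function.Surjective ψ := by
    intro f
    refine ⟨∑ i, (f i).val • Additive.ofMul (e i), ?_⟩
    rw [map_sum]
    funext j
    rw [Finset.sum_apply, Finset.sum_eq_single j]
    · rw [map_nsmul, Pi.smul_apply, hψe, Pi.single_eq_same, nsmul_one, ZMod.natCast_zmod_val]
    · intro i _ hij
      rw [map_nsmul, Pi.smul_apply, hψe, Pi.single_eq_of_ne' hij, smul_zero]
    · exact fun h => absurd (Finset.mem_univ j) h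
  have hψb : Function.Bijective ψ := by
    haveI : Fintype (N.map (QuotientGroup.mk' U)) := Fintype.ofFinite _
    refine (Fintype.bijective_iff_surjective_and_card ψ).mpr ⟨hψs, ?_⟩
    rw [← Nat.card_eq_fintype_card, ← Nat.card_eq_fintype_card, Nat.card_congr Additive.toMul, hcard]
    simp
  let ψe : Additive (N.map (QuotientGroup.mk' U)) ≃+ (Fin 2 ⊕ Fin 2 → ZMod 2) :=
    AddEquiv.ofBijective ψ hψb
  let F : H → ((Fin 2 ⊕ Fin 2 → ZMod 2) →ₗ[ZMod 2] (Fin 2 ⊕ Fin 2 → ZMod 2)) := fun g =>
    (ψe.toAddMonoidHom.comp ((MonoidHom.toAdditive (secMap hN g)).comp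
      ψe.symm.toAddMonoidHom)).toZModLinearMap 2
  have hF : ∀ g x, F g (ψ x) = ψ (Additive.ofMul (secMap hN g x.toMul)) := by
    intro g x
    show ψ (Additive.ofMul (secMap hN g (ψe.symm (ψe x)).toMul)) = _
    rw [AddEquiv.symm_apply_apply]
  have hpair : ∀ x y : N.map (QuotientGroup.mk' U), β x y =
      ∑ i, ∑ j, ψ (Additive.ofMul x) i * (Matrix.J (Fin 2) (ZMod 2) i j) * ψ (Additive.ofMul y) j := by
    intro x y
    obtain ⟨f, rfl⟩ : ∃ f, (ψe.symm f).toMul = x := ⟨ψe (Additive.ofMul x), by simp⟩
    have hx : ψ (Additive.ofMul (ψe.symm f).toMul) = f := ψe.apply_symm_apply f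
    rw [hx]
    have hexpand : ψe.symm f = ∑ i, (f i).val • Additive.ofMul (e i) := by
      apply ψe.injective
      rw [AddEquiv.apply_symm_apply]
      show f = ψ _
      rw [map_sum]
      funext j
      rw [Finset.sum_apply, Finset.sum_eq_single j]
      · rw [map_nsmul, Pi.smul_apply, hψe, Pi.single_eq_same, nsmul_one, ZMod.natCast_zmod_val]
      · intro i _ hij
        rw [map_nsmul, Pi.smul_apply, hψe, Pi.single_eq_of_ne' hij, smul_zero]
      · exact fun h => absurd (Finset.mem_univ j) h
    let L : Additive (N.map (QuotientGroup.mk' U)) →+ ZMod 2 :=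
      AddMonoidHom.mk' (fun z => β y z.toMul) fun u v => hβr y _ _
    have hl : β (ψe.symm f).toMul y = ∑ i, f i * β (e i) y := by
      rw [hβs y]
      show L (ψe.symm f) = _
      rw [hexpand, map_sum]
      refine Finset.sum_congr rfl fun i _ => ?_
      rw [map_nsmul, nsmul_eq_mul, ZMod.natCast_val, ZMod.cast_id]
      exact congrArg (f i * ·) (hβs (e i) y)
    rw [hl, show ψ (Additive.ofMul y) = fun i => β (e' i) y from rfl]
    have hJ := J_entry
    have hswap : ∀ i, e' (Sum.swap i) = e i := fun i => by rcases i with i | i <;> rfl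
    refine Finset.sum_congr rfl fun i _ => ?_
    rw [Finset.sum_eq_single (Sum.swap i)]
    · rw [hJ, if_pos rfl, mul_one]
      exact congrArg (fun z => f i * β z y) (hswap i).symm
    · intro j _ hji
      rw [hJ, if_neg hji, mul_zero, zero_mul]
    · exact fun h => absurd (Finset.mem_univ _) h
  clear_value F
  let R : H → Matrix (Fin 2 ⊕ Fin 2) (Fin 2 ⊕ Fin 2) (ZMod 2) := fun g => LinearMap.toMatrix' (F g)
  have hR1 : R 1 = 1 := by
    rw [show R 1 = LinearMap.toMatrix' (F 1) from rfl, show F 1 = LinearMap.id from LinearMap.ext fun f => by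
      obtain ⟨x, rfl⟩ := hψs f
      rw [hF, secMap_one]
      rfl, LinearMap.toMatrix'_id]
  have hRmul : ∀ g h, R (g * h) = R g * R h := fun g h => by
    rw [show R g * R h = LinearMap.toMatrix' (F g ∘ₗ F h) from (LinearMap.toMatrix'_comp _ _).symm]
    refine congrArg (fun L => LinearMap.toMatrix' L) (LinearMap.ext fun f => ?_)
    obtain ⟨x, rfl⟩ := hψs f
    rw [LinearMap.comp_apply, hF, hF, hF, secMap_mul]
    rfl
  have hRmem : ∀ g : Subgroup.centralizer (U : Set H),
      R g ∈ Matrix.symplecticGroup (Fin 2) (ZMod 2) := by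
    intro g
    rw [SymplecticGroup.mem_iff']
    refine Matrix.ext fun i j => ?_
    have h1 : ∀ k i, R g k i = ψ (Additive.ofMul (secMap hN g (e i))) k := fun k i => by
      show LinearMap.toMatrix' (F g) k i = _
      rw [LinearMap.toMatrix'_apply, ← hψe i]
      exact congrFun (hF g (Additive.ofMul (e i))) k
    have h2 : β (secMap hN g (e i)) (secMap hN g (e j)) = β (e i) (e j) := by
      simp only [β, omega_secMap hN g.2]
    rw [hpair, hpair, hψe, hψe] at h2
    simp only [← h1] at h2
    rw [show ∑ x, ∑ y, (Pi.single i (1 : ZMod 2) : Fin 2 ⊕ Fin 2 → ZMod 2) x * Matrix.J (Fin 2) (ZMod 2) x y *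
        (Pi.single j 1 : Fin 2 ⊕ Fin 2 → ZMod 2) y = Matrix.J (Fin 2) (ZMod 2) i j by
      simp [Pi.single_apply]] at h2
    rw [← h2, Matrix.mul_apply, Finset.sum_comm]
    refine Finset.sum_congr rfl fun y _ => ?_
    rw [Matrix.mul_apply, Finset.sum_mul]
    rfl
  let ρ : Subgroup.centralizer (U : Set H) →* Matrix.symplecticGroup (Fin 2) (ZMod 2) :=
    { toFun := fun g => ⟨R g, hRmem g⟩
      map_one' := Subtype.ext hR1
      map_mul' := fun g h => Subtype.ext (hRmul g h) }
  obtain ⟨s6⟩ := Cfsg.Agent.LinearGroup.Sp42.equiv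
  have hkereq : ρ.ker = N.subgroupOf (Subgroup.centralizer (U : Set H)) := by
    ext g
    rw [MonoidHom.mem_ker, Subgroup.mem_subgroupOf]
    constructor
    · intro h
      refine mem_of_secMap_id hN g.2 fun x => ?_
      have hR : R g = R 1 := by rw [hR1]; exact congrArg Subtype.val h
      have h3 := LinearMap.congr_fun (LinearMap.toMatrix'.injective hR) (ψ (Additive.ofMul x))
      rw [hF, hF, secMap_one] at h3
      exact Additive.ofMul.injective (hψb.1 h3)
    · intro h
      apply Subtype.ext
      show R g = 1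
      rw [← hR1]
      show LinearMap.toMatrix' (F g) = LinearMap.toMatrix' (F 1)
      refine congrArg (fun L => LinearMap.toMatrix' L) (LinearMap.ext fun f => ?_)
      obtain ⟨x, rfl⟩ := hψs f
      rw [hF, hF, secMap_one]
      congr 2
      apply Subtype.ext
      rw [secMap_coe, mul_inv_eq_iff_eq_mul, ← mk_out x.toMul, ← commutatorElement_eq_one_iff_mul_comm,
        ← map_commutatorElement]
      exact (QuotientGroup.eq_one_iff _).mpr (hN.comm _ h _ (out_mem hN _))
  let σ := s6.toMonoidHom.comp ρ
  have hσ : σ.ker = N.subgroupOf (Subgroup.centralizer (U : Set H)) := by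
    rw [← hkereq]
    ext g
    rw [MonoidHom.mem_ker, MonoidHom.mem_ker]
    exact map_eq_one_iff s6 s6.injective
  rw [Subgroup.relIndex, ← hσ, Subgroup.index_ker]
  exact card_solvable_six (Group.isSolvable_of_surjective σ.rangeRestrict_surjective) σ.range.subtype
    Subtype.val_injective

end Cfsg.Agent.K94
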