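import Mathlib

/-!
# Arithmetic for the bound `60 k ≥ 49 p`
-/

set_option autoImplicit false
set_option linter.style.haveILetI false

namespace Cfsg.Agent.K94

/-- The data wanted for an irreducible module of dimension at least two: either the product of
class number and orbit number is large, or it comes from a two-dimensional block with quotient of
order twenty-four by the scalars. -/
def Good (p k r : ℕ) : Prop :=
  2401 * p ^ 2 ≤ 14400 * (k * r) ∨
    ∃ z m t : ℕ, 0 < m ∧ z ∣ p - 1 ∧ 2 ∣ z ∧ 4 * z ≤ m * k ∧ p ^ 2 - 1 ≤ 24 * (z * t) ∧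
      m * t ≤ r ∧ (2 ≤ m → m * t + t * (t - 1) / 2 ≤ r)

theorem good_block {p k k₁ r r₁ m : ℕ} (hk : k₁ ≤ m * k) (hm : 2 ≤ m)
    (hr : m * r₁ + r₁ * (r₁ - 1) / 2 ≤ r) (h : Good p k₁ r₁) : Good p k r := by
  rcases h with h | ⟨z, m₁, t, hm₁, hz, hz2, h4, h24, hmt, -⟩
  · left
    refine h.trans (Nat.mul_le_mul_left _ ?_)
    calc k₁ * r₁ ≤ m * k * r₁ := Nat.mul_le_mul_right _ hk
      _ = k * (m * r₁) := by ring
      _ ≤ k * r := Nat.mul_le_mul_left _ (by omega)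
  · right
    have htr : t ≤ r₁ := (Nat.le_mul_of_pos_left t hm₁).trans hmt
    have h1 : t * (t - 1) / 2 ≤ r₁ * (r₁ - 1) / 2 :=
      Nat.div_le_div_right (Nat.mul_le_mul htr (by omega))
    have h2 : m * m₁ * t ≤ m * r₁ := by rw [mul_assoc]; exact Nat.mul_le_mul_left _ hmt
    refine ⟨z, m * m₁, t, by positivity, hz, hz2, h4.trans ?_, h24, by omega, fun _ => by omega⟩
    calc m₁ * k₁ ≤ m₁ * (m * k) := Nat.mul_le_mul_left _ hk
      _ = _ := by ring

theorem sum_of_prod {p k r : ℕ} (h : 2401 * p ^ 2 ≤ 14400 * (k * r)) :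
    49 * p ≤ 60 * (k + r) := by
  refine Nat.pow_le_pow_iff_left two_ne_zero |>.mp ?_
  have h1 : 4 * (k * r) ≤ (k + r) ^ 2 := by
    zify
    nlinarith [sq_nonneg ((k : ℤ) - r)]
  nlinarith

/-- The two-dimensional block itself. -/
theorem sum_one {p z k t d : ℕ} (hp : p.Prime) (hp11 : 11 ≤ p) (hd : p - 1 = z * d) (hz2 : 2 ∣ z)
    (h4 : 4 * z ≤ k) (h24 : p ^ 2 - 1 ≤ 24 * (z * t)) : 49 * p ≤ 60 * (k + t) := by
  suffices 49 * p ≤ 60 * (4 * z + t) by omega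
  have hd0 : 0 < d := by
    rcases Nat.eq_zero_or_pos d with rfl | h
    · omega
    · exact h
  have hz0 : 0 < z := by
    rcases Nat.eq_zero_or_pos z with rfl | h
    · omega
    · exact h
  have hpz : p = z * d + 1 := by omega
  have hsq : p ^ 2 - 1 = z * (d * (p + 1)) := by
    obtain ⟨q, rfl⟩ : ∃ q, p = q + 1 := ⟨p - 1, by omega⟩
    have e : z * (d * (q + 1 + 1)) = q * (q + 2) := by
      rw [← mul_assoc, show z * d = q by omega]
    rw [e, show (q + 1) ^ 2 = q * (q + 2) + 1 by ring, Nat.add_sub_cancel]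
  have ht : d * (p + 1) ≤ 24 * t := by
    rw [hsq, show 24 * (z * t) = z * (24 * t) by ring] at h24
    exact Nat.le_of_mul_le_mul_left h24 hz0
  rcases Nat.lt_or_ge d 10 with hd10 | hd10
  · rcases Nat.lt_or_ge z 12 with hz12 | hz12
    · obtain ⟨w, rfl⟩ := hz2
      have hw : w < 6 := by omega
      interval_cases d <;> interval_cases w <;> first | omega | (subst hpz; norm_num at hp)
    · interval_cases d <;> omega
  · subst hpz
    zify at *
    nlinarith [mul_nonneg (mul_nonneg (by linarith : (0 : ℤ) ≤ z) (by linarith : (0 : ℤ) ≤ (d : ℤ) - 10))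
      (by linarith : (0 : ℤ) ≤ 5 * (d : ℤ) - 48)]

theorem sum_many {p z k t m r : ℕ} (hp11 : 11 ≤ p) (hm : 2 ≤ m) (hz : z ≤ p - 1)
    (h4 : 4 * z ≤ m * k) (h24 : p ^ 2 - 1 ≤ 24 * (z * t)) (hr : m * t + t * (t - 1) / 2 ≤ r) :
    49 * p ≤ 60 * (k + r) := by
  set c := t * (t - 1) / 2
  suffices 49 * p ≤ 60 * (k + m * t + c) by omega
  have h1 : (p + 1) * (p - 1) = p ^ 2 - 1 := by
    obtain ⟨q, rfl⟩ : ∃ q, p = q + 1 := ⟨p - 1, by omega⟩
    rw [Nat.add_sub_cancel, show (q + 1) ^ 2 = (q + 1 + 1) * q + 1 by ring, Nat.add_sub_cancel]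
  have h2 : p + 1 ≤ 24 * t := by
    refine Nat.le_of_mul_le_mul_right ?_ (show 0 < p - 1 by omega)
    rw [h1]
    refine h24.trans ?_
    calc 24 * (z * t) ≤ 24 * ((p - 1) * t) := by gcongr
      _ = _ := by ring
  have h3 : 4 * (z * t) ≤ k * (m * t) := by
    calc 4 * (z * t) = 4 * z * t := by ring
      _ ≤ m * k * t := Nat.mul_le_mul_right _ h4
      _ = _ := by ring
  generalize hu : m * t = u at h3 ⊢
  have h5 : p ^ 2 - 1 ≤ 6 * (k * u) := by omega
  have h6 : 4 * (k * u) ≤ (k + u) ^ 2 := by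
    zify
    nlinarith [sq_nonneg ((k : ℤ) - u)]
  have h7 : 2 * (p ^ 2 - 1) ≤ 3 * (k + u) ^ 2 := by omega
  rcases Nat.lt_or_ge p 48 with hp48 | hp48
  · generalize k + u = s at h7 ⊢
    by_contra hlt
    have hs : s < 40 := by omega
    interval_cases p <;> first | omega | (interval_cases s <;> omega)
  · have hc : t ≤ c := by
      have : 3 ≤ t := by omega
      show t ≤ t * (t - 1) / 2
      rw [Nat.le_div_iff_mul_le two_pos]
      exact Nat.mul_le_mul_left t (by omega)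
    generalize k + u = s at h7 ⊢
    have hp2 : 1 ≤ p ^ 2 := Nat.one_le_pow _ _ (by omega)
    zify [hp2] at h7 h2 hc ⊢
    by_contra hlt
    nlinarith

theorem good_sum {p k r : ℕ} (hp : p.Prime) (hp11 : 11 ≤ p) (h : Good p k r) :
    49 * p ≤ 60 * (k + r) := by
  rcases h with h | ⟨z, m, t, hm0, hz, hz2, h4, h24, hmt, hm⟩
  · exact sum_of_prod h
  rcases Nat.lt_or_ge m 2 with hm1 | hm2
  · obtain rfl : m = 1 := by omega
    obtain ⟨d, hd⟩ := hz
    have := sum_one hp hp11 hd hz2 (by omega) h24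
    omega
  · exact sum_many hp11 hm2 (Nat.le_of_dvd (by omega) hz) h4 h24 (hm hm2)

/-- Index `D` small enough. -/
theorem good_of_index {p n k r D : ℕ} (hp : 2 ≤ p) (hn : 1 ≤ n) (h : p ^ n - 1 ≤ k * r * D)
    (hD : 2401 * p ^ 2 * D ≤ 14400 * (p ^ n - 1)) : Good p k r := by
  left
  rcases Nat.eq_zero_or_pos D with rfl | hD0
  · have : p ≤ p ^ n := Nat.le_self_pow (by omega) p
    omega
  refine Nat.le_of_mul_le_mul_right ?_ hD0
  calc 2401 * p ^ 2 * D ≤ 14400 * (p ^ n - 1) := hD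
    _ ≤ 14400 * (k * r * D) := Nat.mul_le_mul_left _ h
    _ = _ := by ring

theorem pow_margin {p n : ℕ} (hp : 11 ≤ p) (hn : 4 ≤ n) :
    14399 * p ^ n ≤ 14400 * (p ^ n - 1) := by
  have : 14400 ≤ p ^ n := le_trans (by norm_num : 14400 ≤ 11 ^ 4)
    ((Nat.pow_le_pow_left hp 4).trans (Nat.pow_le_pow_right (by omega) hn))
  omega

theorem index_ok {p n D : ℕ} (hp : 11 ≤ p) (hn : 4 ≤ n) (hD : 2401 * D ≤ 14399 * 11 ^ (n - 2)) :
    2401 * p ^ 2 * D ≤ 14400 * (p ^ n - 1) := by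
  refine le_trans ?_ (pow_margin hp hn)
  calc 2401 * p ^ 2 * D = 2401 * D * p ^ 2 := by ring
    _ ≤ 14399 * 11 ^ (n - 2) * p ^ 2 := Nat.mul_le_mul_right _ hD
    _ ≤ 14399 * p ^ (n - 2) * p ^ 2 := by gcongr
    _ = _ := by rw [mul_assoc, ← pow_add, show n - 2 + 2 = n by omega]

theorem index_ok3 {p D : ℕ} (hp : 11 ≤ p) (hD : D ≤ 65) :
    2401 * p ^ 2 * D ≤ 14400 * (p ^ 3 - 1) := by
  have h1 : 2401 * p ^ 2 * D ≤ 2401 * p ^ 2 * 65 := Nat.mul_le_mul_left _ hD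
  have h2 : 11 * p ^ 2 ≤ p ^ 3 := by rw [pow_succ' p 2]; exact Nat.mul_le_mul_right _ hp
  have h3 : 121 ≤ p ^ 2 := Nat.pow_le_pow_left hp 2
  omega

theorem index_ok2 {p D : ℕ} (hp : 11 ≤ p) (hD : D ≤ 5) :
    2401 * p ^ 2 * D ≤ 14400 * (p ^ 2 - 1) := by
  have h1 : 2401 * p ^ 2 * D ≤ 2401 * p ^ 2 * 5 := Nat.mul_le_mul_left _ hD
  have h3 : 121 ≤ p ^ 2 := Nat.pow_le_pow_left hp 2
  omega

end Cfsg.Agent.K94
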