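import Cfsg.Agent.BC87.SolvableK.Classes
import Cfsg.Agent.BC87.SolvableK.Conj
import Mathlib.GroupTheory.CommutingProbability

/-!
# Orbit and class counting for modules
-/

set_option autoImplicit false
set_option linter.style.haveILetI false

namespace Cfsg.Agent.K94

open Cfsg.Agent.BC85.BaseTwo

/-- The number of orbits on the nonzero elements. -/
noncomputable def orbCount (H V : Type) [Group H] [AddCommGroup V] [DistribMulAction H V] : ℕ :=
  Nat.card (MulAction.orbitRel.Quotient H V) - 1

/-- A subgroup has at most index times as many classes. -/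
theorem classes_subgroup_le {H : Type} [Group H] [Finite H] (K : Subgroup H) :
    Nat.card (ConjClasses K) ≤ K.index * Nat.card (ConjClasses H) := by
  let f : {x : K × K // Commute x.1 x.2} → {x : H × H // Commute x.1 x.2} :=
    fun x => ⟨(x.1.1, x.1.2), x.2.map K.subtype⟩
  have hf : Function.Injective f := by
    intro a b h
    have h1 := congrArg (fun z : {x : H × H // Commute x.1 x.2} => z.1) h
    simp only [f, Prod.mk.injEq] at h1
    exact Subtype.ext (Prod.ext (Subtype.ext h1.1) (Subtype.ext h1.2))
  have h := Nat.card_le_card_of_injective f hf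
  rw [card_comm_eq_card_conjClasses_mul_card, card_comm_eq_card_conjClasses_mul_card,
    ← K.index_mul_card] at h
  refine Nat.le_of_mul_le_mul_right ?_ (Nat.card_pos (α := K))
  calc _ ≤ _ := h
    _ = _ := by ring

theorem classes_surj_le {H Q : Type} [Group H] [Finite H] [Group Q] (f : H →* Q)
    (hf : Function.Surjective f) : Nat.card (ConjClasses Q) ≤ Nat.card (ConjClasses H) :=
  Nat.card_le_card_of_surjective _ (ConjClasses.map_surjective hf)

section

variable {H V : Type} [Group H] [AddCommGroup V] [DistribMulAction H V]

theorem le_orbCount [Finite V] {J T : Type*} [Finite J] (F : V → T)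
    (hinv : ∀ (h : H) (v : V), F (h • v) = F v) (f : J → V) (hf0 : ∀ j, f j ≠ 0)
    (hinj : Function.Injective fun j => F (f j)) : Nat.card J ≤ orbCount H V := by
  classical
  haveI : Finite (MulAction.orbitRel.Quotient H V) := Quotient.finite _
  let g : Option J → MulAction.orbitRel.Quotient H V := fun o =>
    Quotient.mk'' (o.elim 0 f)
  have hg : Function.Injective g := by
    intro a b hab
    have hrel : MulAction.orbitRel H V (a.elim 0 f) (b.elim 0 f) := Quotient.exact' hab
    rw [MulAction.orbitRel_apply] at hrel
    obtain ⟨h, hh⟩ := hrel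
    have hh' : h • b.elim 0 f = a.elim 0 f := hh
    cases a with
    | none =>
      cases b with
      | none => rfl
      | some j =>
        exact absurd ((smul_eq_zero_iff_eq h).mp hh') (hf0 j)
    | some i =>
      cases b with
      | none => exact absurd (hh'.symm.trans (smul_zero h)) (hf0 i)
      | some j =>
        have := hinv h (f j)
        simp only [Option.elim] at hh'
        rw [hh'] at this
        exact congrArg some (hinj this)
  have h := Nat.card_le_card_of_injective g hg
  rw [Finite.card_option] at h
  unfold orbCount
  omega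

/-- A map which separates representatives of the orbits. -/
theorem exists_reps [Finite V] :
    ∃ f : Fin (orbCount H V) → V, (∀ j, f j ≠ 0) ∧
      ∀ i j (h : H), h • f i = f j → i = j := by
  classical
  haveI : Finite (MulAction.orbitRel.Quotient H V) := Quotient.finite _
  let z : MulAction.orbitRel.Quotient H V := Quotient.mk'' (0 : V)
  have hc : Nat.card {q : MulAction.orbitRel.Quotient H V // q ≠ z} = orbCount H V := by
    haveI : Fintype (MulAction.orbitRel.Quotient H V) := Fintype.ofFinite _
    rw [orbCount, Nat.card_eq_fintype_card, Nat.card_eq_fintype_card, Fintype.card_subtype_compl,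
      Fintype.card_subtype_eq]
  let e := (Finite.equivFinOfCardEq hc).symm
  refine ⟨fun j => Quotient.out (e j).1, fun j hj => (e j).2 ?_, fun i j h hh => ?_⟩
  · rw [← Quotient.out_eq' (e j).1]
    exact congrArg _ hj
  · apply e.injective
    apply Subtype.ext
    rw [← Quotient.out_eq' (e i).1, ← Quotient.out_eq' (e j).1]
    refine (Quotient.sound' ?_).symm
    rw [MulAction.orbitRel_apply]
    exact ⟨h, hh⟩

theorem card_sub_one_le [Finite V] [Finite H] :
    Nat.card V - 1 ≤ orbCount H V * Nat.card H := by
  classical
  haveI : Finite (MulAction.orbitRel.Quotient H V) := Quotient.finite _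
  let z : MulAction.orbitRel.Quotient H V := Quotient.mk'' (0 : V)
  let π : {v : V // v ≠ 0} → {q : MulAction.orbitRel.Quotient H V // q ≠ z} := fun v =>
    ⟨Quotient.mk'' v.1, fun h => by
      have hrel : MulAction.orbitRel H V v.1 0 := Quotient.exact' h
      rw [MulAction.orbitRel_apply] at hrel
      obtain ⟨g, hg⟩ := hrel
      exact v.2 (hg.symm.trans (smul_zero g))⟩
  let f : {v : V // v ≠ 0} → {q : MulAction.orbitRel.Quotient H V // q ≠ z} × H := fun v =>
    (π v, (show ∃ g : H, g • Quotient.out (π v).1 = v.1 by
      have h : MulAction.orbitRel H V v.1 (Quotient.out (π v).1) :=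
        Quotient.exact' (Quotient.out_eq' (π v).1).symm
      rw [MulAction.orbitRel_apply] at h
      exact h).choose)
  have hspec : ∀ v, (f v).2 • Quotient.out (f v).1.1 = v.1 := fun v =>
    (show ∃ g : H, g • Quotient.out (π v).1 = v.1 by
      have h : MulAction.orbitRel H V v.1 (Quotient.out (π v).1) :=
        Quotient.exact' (Quotient.out_eq' (π v).1).symm
      rw [MulAction.orbitRel_apply] at h
      exact h).choose_spec
  have hf : Function.Injective f := fun a b h => Subtype.ext (by rw [← hspec a, ← hspec b, h])
  have h := Nat.card_le_card_of_injective f hf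
  have h1 : Nat.card {v : V // v ≠ 0} = Nat.card V - 1 := by
    haveI : Fintype V := Fintype.ofFinite _
    rw [Nat.card_eq_fintype_card, Nat.card_eq_fintype_card, Fintype.card_subtype_compl,
      Fintype.card_subtype_eq]
  have h2 : Nat.card {q : MulAction.orbitRel.Quotient H V // q ≠ z} = orbCount H V := by
    haveI : Fintype (MulAction.orbitRel.Quotient H V) := Fintype.ofFinite _
    rw [orbCount, Nat.card_eq_fintype_card, Nat.card_eq_fintype_card, Fintype.card_subtype_compl,
      Fintype.card_subtype_eq]
  rwa [h1, Nat.card_prod, h2] at h

theorem orbCount_pos [Finite V] (hV : ∃ v : V, v ≠ 0) : 1 ≤ orbCount H V := by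
  obtain ⟨v, hv⟩ := hV
  have := le_orbCount (H := H) (J := Unit) (fun _ : V => ()) (fun _ _ => rfl) (fun _ => v)
    (fun _ => hv) (fun _ _ _ => rfl)
  simpa using this

/-- The product of class number and orbit number against a pair of subgroups of small index. -/
theorem prod_bound [Finite V] [Finite H] [FaithfulSMul H V] (A M : Subgroup H)
    (h : ∀ a ∈ A, ∀ m ∈ M, m * a = a * m) :
    Nat.card V - 1 ≤ Nat.card (ConjClasses H) * orbCount H V * (M.index * A.index) := by
  refine (card_sub_one_le (H := H)).trans ?_
  have h1 := BC87.SolvableK.card_le_classes_mul_index A M h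
  calc orbCount H V * Nat.card H = orbCount H V * (A.index * Nat.card A) := by rw [A.index_mul_card]
    _ ≤ orbCount H V * (A.index * (Nat.card (ConjClasses H) * M.index)) := by gcongr
    _ = _ := by ring

end

section Conj

open BC87.SolvableK
open scoped IsMulCommutative
attribute [local instance] conjAct

theorem orbCount_add_one_le_classesIn {G : Type} [Group G] [Finite G] (N : Subgroup G) [N.Normal]
    [IsMulCommutative N] :
    orbCount (G ⧸ Subgroup.centralizer (N : Set G)) (Additive N) + 1 ≤ classesIn N := by
  classical
  obtain ⟨f, hf0, hf⟩ := exists_reps (H := G ⧸ Subgroup.centralizer (N : Set G)) (V := Additive N)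
  let f' : Option (Fin (orbCount (G ⧸ Subgroup.centralizer (N : Set G)) (Additive N))) → Additive N :=
    fun o => o.elim 0 f
  let g : Option (Fin (orbCount (G ⧸ Subgroup.centralizer (N : Set G)) (Additive N))) →
      {c : ConjClasses G // ∃ x ∈ N, ConjClasses.mk x = c} :=
    fun o => ⟨ConjClasses.mk ((f' o).toMul : G), _, (f' o).toMul.2, rfl⟩
  have hg : Function.Injective g := by
    intro a b h
    obtain ⟨c, hc⟩ := isConj_iff.mp (ConjClasses.mk_eq_mk_iff_isConj.mp (congrArg Subtype.val h))
    have h' : (QuotientGroup.mk' (Subgroup.centralizer (N : Set G)) c) • f' a = f' b :=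
      Additive.toMul.injective (Subtype.ext ((conjAct_mk N c (f' a)).trans hc))
    cases a with
    | none =>
      cases b with
      | none => rfl
      | some j => exact absurd (h'.symm.trans (smul_zero _)) (hf0 j)
    | some i =>
      cases b with
      | none => exact absurd ((smul_eq_zero_iff_eq _).mp h') (hf0 i)
      | some j => exact congrArg some (hf i j _ h')
  have h := Nat.card_le_card_of_injective g hg
  rw [Finite.card_option, Nat.card_fin] at h
  exact h

end Conj

end Cfsg.Agent.K94
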