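import Cfsg.Agent.BC85.BaseTwo.Tools
import Cfsg.Agent.Lib.Solvable.Basic

/-!
# Solvable transitive permutation groups of degree `n` have order at most `24 ^ ((n - 1) / 3)`
-/

set_option autoImplicit false
set_option linter.style.haveILetI false

namespace Cfsg.Agent.K94

open Cfsg.Agent.BC85.BaseTwo MulAction

theorem cube_le_two_pow {q : ℕ} (hq : 4 ≤ q) : q ^ 3 ≤ 2 ^ (2 * (q - 1)) := by
  induction q, hq using Nat.le_induction with
  | base => norm_num
  | succ q hq ih =>
    rw [show 2 * (q + 1 - 1) = 2 * (q - 1) + 2 by omega, pow_add]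
    have h1 : (4 * (q + 1)) ^ 3 ≤ (5 * q) ^ 3 := Nat.pow_le_pow_left (by omega) 3
    rw [mul_pow, mul_pow] at h1
    generalize (q + 1) ^ 3 = A at h1
    generalize q ^ 3 = B at h1 ih
    generalize 2 ^ (2 * (q - 1)) = C at ih ⊢
    omega

theorem three_mul_le {a : ℕ} (ha : 4 ≤ a) : 3 * a * (a + 1) + 4 ≤ 4 * 2 ^ a := by
  induction a, ha using Nat.le_induction with
  | base => norm_num
  | succ a ha ih =>
    rw [pow_succ]
    nlinarith

theorem affine_le {q a : ℕ} (hq : q.Prime) (ha : 0 < a) :
    (q ^ a * ∏ i : Fin a, (q ^ a - q ^ (i : ℕ))) ^ 3 ≤ 24 ^ (q ^ a - 1) := by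
  rcases Nat.lt_or_ge q 3 with hq3 | hq3
  · obtain rfl : q = 2 := by have := hq.two_le; omega
    rcases Nat.lt_or_ge a 4 with ha4 | ha4
    · interval_cases a <;> norm_num [Fin.prod_univ_succ]
    · refine ((Nat.pow_le_pow_left (Nat.mul_le_mul_left _ ((Finset.prod_le_pow_card _ _ (2 ^ a)
        fun i _ => Nat.sub_le _ _).trans (by rw [Finset.card_univ, Fintype.card_fin]))) 3).trans ?_)
      rw [← pow_succ', ← pow_mul, ← pow_mul]
      calc 2 ^ (a * ((a + 1) * 3)) ≤ 2 ^ (4 * (2 ^ a - 1)) :=
            Nat.pow_le_pow_right (by norm_num) (by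
              have := three_mul_le ha4
              generalize 2 ^ a = A at this ⊢
              nlinarith [Nat.sub_add_cancel (show 1 ≤ A by omega)])
        _ ≤ _ := by rw [pow_mul]; exact Nat.pow_le_pow_left (by norm_num) _
  · by_cases h31 : q = 3 ∧ a = 1
    · obtain ⟨rfl, rfl⟩ := h31
      norm_num
    by_cases h32 : q = 3 ∧ a = 2
    · obtain ⟨rfl, rfl⟩ := h32
      norm_num [Fin.prod_univ_succ]
    refine ((Nat.pow_le_pow_left (Nat.mul_le_mul_left _ ((Finset.prod_le_pow_card _ _ (q ^ a)
      fun i _ => Nat.sub_le _ _).trans (by rw [Finset.card_univ, Fintype.card_fin]))) 3).trans ?_)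
    rw [← pow_succ', ← pow_mul, ← pow_mul]
    refine le_trans ?_ (Nat.pow_le_pow_left (show 16 ≤ 24 by norm_num) _)
    rw [show (16 : ℕ) = 2 ^ 4 by norm_num, ← pow_mul]
    rcases Nat.lt_or_ge a 2 with ha1 | ha2
    · obtain rfl : a = 1 := by omega
      have hq4 : 4 ≤ q := by omega
      rw [pow_one, show 1 * ((1 + 1) * 3) = 3 * 2 by norm_num, pow_mul,
        show 4 * (q - 1) = 2 * (q - 1) * 2 by ring, pow_mul]
      exact Nat.pow_le_pow_left (cube_le_two_pow hq4) 2
    · have h2 : q ≤ 2 ^ (q - 1) := by
        have := Nat.lt_two_pow_self (n := q - 1)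
        omega
      refine (Nat.pow_le_pow_left h2 _).trans ?_
      rw [← pow_mul]
      refine Nat.pow_le_pow_right (by norm_num) ?_
      obtain ⟨s, rfl⟩ : ∃ s, q = s + 1 := ⟨q - 1, by omega⟩
      rw [Nat.add_sub_cancel]
      have h4 : 3 * (a * (a + 1)) * s + 4 ≤ 4 * (s + 1) ^ a := by
        rcases Nat.lt_or_ge a 3 with ha3 | ha3
        · obtain rfl : a = 2 := by omega
          have hs : 3 ≤ s := by omega
          nlinarith
        · clear h2 h31 h32
          induction a, ha3 using Nat.le_induction with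
          | base => nlinarith [Nat.mul_le_mul_left (s * s) (show 2 ≤ s by omega), Nat.mul_le_mul_left s (show 2 ≤ s by omega)]
          | succ a ha3 ih =>
            rw [pow_succ]
            have h := Nat.mul_le_mul (ih (by omega) (by omega)) (show 3 ≤ s + 1 by omega)
            have h2 : (a + 1) * (a + 1 + 1) ≤ 3 * (a * (a + 1)) := by nlinarith
            have h3 := Nat.mul_le_mul_left (3 * s) h2
            nlinarith
      generalize (s + 1) ^ a = A at h4 ⊢
      nlinarith [Nat.sub_add_cancel (show 1 ≤ A by omega)]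

/-- The bound. -/
theorem perm_bound (n : ℕ) : ∀ (G Ω : Type) [Group G] [Finite G] [Finite Ω] [MulAction G Ω]
    [IsPretransitive G Ω], Group.IsSolvable G → Nat.card Ω = n →
      (toPermHom G Ω).ker.index ^ 3 ≤ 24 ^ (n - 1) := by
  induction n using Nat.strong_induction_on with
  | _ n ih =>
  intro G₀ Ω _ _ _ _ _ hsol hn
  classical
  haveI := hsol
  rw [Subgroup.index_ker]
  set S := (toPermHom G₀ Ω).range
  haveI : Group.IsSolvable S := Group.isSolvable_of_surjective (toPermHom G₀ Ω).rangeRestrict_surjective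
  haveI : IsPretransitive S Ω := ⟨fun x y => by
    obtain ⟨g, hg⟩ := exists_smul_eq G₀ x y
    exact ⟨⟨_, g, rfl⟩, hg⟩⟩
  rcases subsingleton_or_nontrivial S with hS | hS
  · rw [Nat.card_eq_one_iff_unique.mpr ⟨hS, ⟨1⟩⟩, one_pow]
    exact Nat.one_le_pow _ _ (by norm_num)
  obtain ⟨N, q, hNn, hN0, hNmin, hq, -, hNc, hexp, a, ha, hNcard⟩ :=
    Cfsg.Agent.Solvable.exists_minimal_normal_elementary S
  haveI := hNn
  haveI := hNc
  haveI : Fact q.Prime := ⟨hq⟩
  have hstab : ∀ (g : S) (x : Ω) (m : N), g • ((m : S) • x) =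
      ((MulAut.conjNormal g m : N) : S) • (g • x) := by
    intro g x m
    rw [MulAut.conjNormal_apply, mul_smul, mul_smul, inv_smul_smul]
  let Orb := MulAction.orbitRel.Quotient N Ω
  haveI : Finite Orb := Quotient.finite _
  haveI : Fintype Orb := Fintype.ofFinite _
  by_cases hone : ∀ x y : Ω, (Quotient.mk'' x : Orb) = Quotient.mk'' y
  · -- a regular normal subgroup
    rcases isEmpty_or_nonempty Ω with he | ⟨⟨ω⟩⟩
    · haveI : Subsingleton S := ⟨fun g h => Subtype.ext (Equiv.ext fun x => he.elim x)⟩
      exact absurd hS (not_nontrivial S)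
    have htr : ∀ y : Ω, ∃ m : N, (m : S) • ω = y := fun y => by
      have h : orbitRel N Ω y ω := Quotient.exact' (hone y ω)
      rw [orbitRel_apply] at h
      exact h
    have hreg : Function.Bijective fun m : N => (m : S) • ω := by
      refine ⟨fun m m' h => ?_, htr⟩
      apply Subtype.ext
      apply Subtype.ext
      refine Equiv.ext fun y => ?_
      obtain ⟨k, rfl⟩ := htr y
      show (m : S) • ((k : S) • ω) = (m' : S) • ((k : S) • ω)
      have hc : ∀ u v : N, (u : S) * v = v * u := fun u v => congrArg Subtype.val (hNc.is_comm.comm u v)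
      rw [← mul_smul, ← mul_smul, hc m k, hc m' k, mul_smul, mul_smul]
      exact congrArg _ h
    have hnN : Nat.card N = n := (Nat.card_eq_of_bijective _ hreg).trans hn
    let φ : stabilizer S ω →* MulAut N := MulAut.conjNormal.comp (stabilizer S ω).subtype
    letI : CommGroup N := { (inferInstance : Group N) with mul_comm := hNc.is_comm.comm }
    letI : DistribMulAction (stabilizer S ω) (Additive N) :=
      DistribMulAction.compHom (Additive N)
        ({ toFun := fun f => MonoidHom.toAdditive (φ f).toMonoidHom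
           map_one' := by rw [map_one]; rfl
           map_mul' := fun f g => by rw [map_mul]; rfl } :
          stabilizer S ω →* AddMonoid.End (Additive N))
    have hker : ker (stabilizer S ω) (Additive N) = ⊥ := by
      rw [eq_bot_iff]
      intro g hg
      rw [mem_ker] at hg
      rw [Subgroup.mem_bot]
      apply Subtype.ext
      apply Subtype.ext
      refine Equiv.ext fun y => ?_
      obtain ⟨k, rfl⟩ := htr y
      show (g : S) • ((k : S) • ω) = (k : S) • ω
      rw [hstab, show (g : S) • ω = ω from g.2]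
      exact congrArg (fun z : N => (z : S) • ω) (congrArg Additive.toMul (hg (Additive.ofMul k)))
    have h := gl_dvd (H := stabilizer S ω) (V := Additive N) q a (fun v => by
      apply Additive.toMul.injective
      apply Subtype.ext
      rw [toMul_nsmul, Subgroup.coe_pow]
      exact hexp _ (Additive.toMul v).2) ((Nat.card_congr Additive.toMul).trans hNcard)
    rw [hker, Subgroup.index_bot] at h
    have hpos : 0 < ∏ i : Fin a, (q ^ a - q ^ (i : ℕ)) :=
      Finset.prod_pos fun i _ => Nat.sub_pos_of_lt (Nat.pow_lt_pow_right hq.one_lt i.2)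
    rw [← (stabilizer S ω).index_mul_card, index_stabilizer_of_transitive, hn, ← hnN, hNcard]
    exact (Nat.pow_le_pow_left (Nat.mul_le_mul_left _ (Nat.le_of_dvd hpos h)) 3).trans (affine_le hq ha)
  · -- the orbits are blocks
    letI : MulAction S Orb :=
      { smul := fun g => Quotient.map' (g • ·) fun x y h => by
          change orbitRel N Ω x y at h
          rw [orbitRel_apply] at h
          obtain ⟨m, rfl⟩ := h
          show orbitRel N Ω (g • ((m : S) • y)) (g • y)
          rw [orbitRel_apply, hstab]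
          exact ⟨_, rfl⟩
        one_smul := fun b => Quotient.inductionOn' b fun x => congrArg Quotient.mk'' (one_smul S x)
        mul_smul := fun g h b => Quotient.inductionOn' b fun x => congrArg Quotient.mk'' (mul_smul g h x) }
    have hmk : ∀ (g : S) (x : Ω), g • (Quotient.mk'' x : Orb) = Quotient.mk'' (g • x) := fun _ _ => rfl
    haveI : IsPretransitive S Orb := ⟨fun b b' => Quotient.inductionOn₂' b b' fun x y => by
      obtain ⟨g, hg⟩ := exists_smul_eq S x y
      exact ⟨g, by rw [hmk, hg]⟩⟩
    let Bl : Orb → Type := fun b => {x : Ω // (Quotient.mk'' x : Orb) = b}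
    letI hact : ∀ b : Orb, MulAction (stabilizer S b) (Bl b) := fun b =>
      { smul := fun g x => ⟨(g : S) • x.1, by rw [← hmk, x.2]; exact g.2⟩
        one_smul := fun x => Subtype.ext (one_smul S x.1)
        mul_smul := fun g h x => Subtype.ext (mul_smul (g : S) (h : S) x.1) }
    haveI : ∀ b : Orb, IsPretransitive (stabilizer S b) (Bl b) := fun b => ⟨fun x y => by
      obtain ⟨g, hg⟩ := exists_smul_eq S x.1 y.1
      exact ⟨⟨g, by rw [mem_stabilizer_iff, ← x.2, hmk, hg, y.2, x.2]⟩, Subtype.ext hg⟩⟩
    have hsum : ∑ b : Orb, Nat.card (Bl b) = n := by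
      rw [← Nat.card_sigma, Nat.card_congr (Equiv.sigmaFiberEquiv _), hn]
    have hblne : ∀ b : Orb, 1 ≤ Nat.card (Bl b) := fun b => by
      obtain ⟨x, rfl⟩ := Quotient.exists_rep b
      haveI : Nonempty (Bl (Quotient.mk'' x)) := ⟨⟨x, rfl⟩⟩
      exact Nat.card_pos
    have hc2 : 2 ≤ Nat.card Orb := by
      haveI : Nontrivial Orb := by
        push Not at hone
        obtain ⟨x, y, hxy⟩ := hone
        exact ⟨_, _, hxy⟩
      exact Finite.one_lt_card
    have hblt : ∀ b : Orb, Nat.card (Bl b) < n := fun b => by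
      rw [← hsum]
      obtain ⟨b', hb'⟩ := @exists_ne Orb (Finite.one_lt_card_iff_nontrivial.mp hc2) b
      exact Finset.single_lt_sum (f := fun b => Nat.card (Bl b)) hb' (Finset.mem_univ _) (Finset.mem_univ _) (show 0 < Nat.card (Bl b') from hblne b') fun _ _ _ => Nat.zero_le _
    have hclt : Nat.card Orb < n := by
      by_contra hge
      push Not at hge
      refine hN0 (eq_bot_iff.mpr fun m hm => ?_)
      have h1 : ∀ b : Orb, Nat.card (Bl b) = 1 := by
        by_contra hno
        push Not at hno
        obtain ⟨b, hb⟩ := hno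
        have : ∑ _b : Orb, 1 < ∑ b : Orb, Nat.card (Bl b) :=
          Finset.sum_lt_sum (fun b _ => hblne b) ⟨b, Finset.mem_univ _, by have := hblne b; omega⟩
        rw [hsum, Finset.sum_const, Finset.card_univ, smul_eq_mul, mul_one, ← Nat.card_eq_fintype_card] at this
        omega
      rw [Subgroup.mem_bot]
      apply Subtype.ext
      refine Equiv.ext fun x => ?_
      haveI := (Nat.card_eq_one_iff_unique.mp (h1 (Quotient.mk'' x))).1
      exact congrArg Subtype.val (Subsingleton.elim
        (⟨m • x, Quotient.sound' (by rw [orbitRel_apply]; exact ⟨⟨m, hm⟩, rfl⟩)⟩ : Bl (Quotient.mk'' x)) ⟨x, rfl⟩)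
    have htop := ih _ hclt S Orb inferInstance rfl
    have hbl : ∀ b : Orb, (toPermHom (stabilizer S b) (Bl b)).ker.index ^ 3 ≤ 24 ^ (Nat.card (Bl b) - 1) :=
      fun b => ih _ (hblt b) (stabilizer S b) (Bl b) inferInstance rfl
    set K := (toPermHom S Orb).ker
    have hK : Nat.card K ≤ ∏ b : Orb, (toPermHom (stabilizer S b) (Bl b)).ker.index := by
      have hKm : ∀ k ∈ K, ∀ b : Orb, k ∈ stabilizer S b := fun k hk b =>
        Equiv.ext_iff.mp (MonoidHom.mem_ker.mp hk) b
      let f : K → ∀ b : Orb, (toPermHom (stabilizer S b) (Bl b)).range :=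
        fun k b => ⟨_, ⟨k.1, hKm k.1 k.2 b⟩, rfl⟩
      have hf : Function.Injective f := by
        intro k k' h
        apply Subtype.ext
        apply Subtype.ext
        refine Equiv.ext fun x => ?_
        exact congrArg Subtype.val (Equiv.ext_iff.mp (congrArg Subtype.val
          (congrFun h (Quotient.mk'' x))) (⟨x, rfl⟩ : Bl (Quotient.mk'' x)))
      have h := Nat.card_le_card_of_injective f hf
      rw [Nat.card_pi] at h
      refine h.trans (le_of_eq (Finset.prod_congr rfl fun b _ => ?_))
      rw [Subgroup.index_ker]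
    rw [← K.index_mul_card, mul_pow]
    have hK3 : Nat.card K ^ 3 ≤ 24 ^ ∑ b : Orb, (Nat.card (Bl b) - 1) := by
      refine (Nat.pow_le_pow_left hK 3).trans ?_
      rw [← Finset.prod_pow]
      exact (Finset.prod_le_prod' fun b _ => hbl b).trans (le_of_eq (Finset.prod_pow_eq_pow_sum _ _ _))
    refine (Nat.mul_le_mul htop hK3).trans ?_
    rw [← pow_add]
    refine Nat.pow_le_pow_right (by norm_num) ?_
    have h1 : ∑ b : Orb, (Nat.card (Bl b) - 1) + Nat.card Orb = n := by
      rw [← hsum, Nat.card_eq_fintype_card (α := Orb), ← Finset.card_univ, Finset.card_eq_sum_ones,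
        ← Finset.sum_add_distrib]
      exact Finset.sum_congr rfl fun b _ => Nat.sub_add_cancel (hblne b)
    omega

end Cfsg.Agent.K94
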