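import Cfsg.Agent.BC85.BaseTwo.Basic
import Cfsg.Agent.K94.Arith
import Cfsg.Agent.K94.Count
import Cfsg.Agent.K94.Perm

/-!
# Imprimitive modules
-/

set_option autoImplicit false
set_option linter.style.haveILetI false

namespace Cfsg.Agent.K94

open MulAction Cfsg.Agent.BC85 Cfsg.Agent.BC85.BaseTwo

/-- The statement in dimension `n`. -/
def GoodDim (p n : ℕ) [Fact p.Prime] : Prop :=
  ∀ (V H : Type) [AddCommGroup V] [Finite V] [Group H] [Finite H] [DistribMulAction H V]
    [FaithfulSMul H V] [Module (ZMod p) V] [SMulCommClass H (ZMod p) V],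
    Irr H V → Group.IsSolvable H → Module.finrank (ZMod p) V = n →
      Good p (Nat.card (ConjClasses H)) (orbCount H V)

theorem monomial_ok {p m P : ℕ} (hp : 11 ≤ p) (hm : 2 ≤ m) (hP : P ^ 3 ≤ 24 ^ (m - 1)) :
    2401 * p ^ 2 * (P * P) ≤ 14400 * (p ^ m - 1) := by
  rcases Nat.lt_or_ge m 4 with hm4 | hm4
  · interval_cases m
    · refine index_ok2 hp ?_
      have : P < 3 := by
        by_contra h
        push Not at h
        have := Nat.pow_le_pow_left h 3
        omega
      interval_cases P <;> norm_num
    · refine index_ok3 hp ?_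
      have : P < 9 := by
        by_contra h
        push Not at h
        have := Nat.pow_le_pow_left h 3
        omega
      interval_cases P <;> norm_num
  · refine index_ok hp hm4 ((Nat.pow_le_pow_iff_left (n := 3) (by norm_num)).mp ?_)
    rw [mul_pow, mul_pow]
    calc 2401 ^ 3 * (P ^ 3 * P ^ 3) = 2401 ^ 3 * (P ^ 3) ^ 2 := by ring
      _ ≤ 2401 ^ 3 * (24 ^ (m - 1)) ^ 2 := Nat.mul_le_mul_left _ (Nat.pow_le_pow_left hP 2)
      _ = 2401 ^ 3 * 576 ^ (m - 1) := by rw [← pow_mul, mul_comm (m - 1) 2, pow_mul]; norm_num
      _ ≤ _ := ?_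
    clear hP hm
    induction m, hm4 using Nat.le_induction with
    | base => norm_num
    | succ m hm4 ih =>
      rw [show m + 1 - 1 = (m - 1) + 1 by omega, show m + 1 - 2 = (m - 2) + 1 by omega, pow_succ (576 : ℕ), pow_succ (11 : ℕ),
        ← mul_assoc, ← mul_assoc 14399, mul_pow (14399 * _)]
      exact Nat.mul_le_mul ih (by norm_num)

theorem good_of_blocks {p n : ℕ} [Fact p.Prime] (hp : 11 ≤ p) (hb : ∀ r < n, 2 ≤ r → GoodDim p r)
    {V H : Type} [AddCommGroup V] [Finite V] [Group H] [Finite H] [DistribMulAction H V]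
    [FaithfulSMul H V] [Module (ZMod p) V] [SMulCommClass H (ZMod p) V]
    (hsol : Group.IsSolvable H) (hirr : Irr H V) (hn : Module.finrank (ZMod p) V = n)
    {I : Type} [Fintype I] [MulAction H I] (e : I → V →+ V)
    (hK : ∀ i (k : ZMod p) v, e i (k • v) = k • e i v)
    (hidem : ∀ i v, e i (e i v) = e i v) (horth : ∀ i j v, i ≠ j → e i (e j v) = 0)
    (hsum : ∀ v, ∑ i, e i v = v) (hequiv : ∀ (h : H) i v, h • e i v = e (h • i) (h • v))
    (hne : ∀ i, ∃ v, e i v ≠ 0) (i0 i1 : I) (h01 : i0 ≠ i1) :
    Good p (Nat.card (ConjClasses H)) (orbCount H V) := by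
  classical
  have htrans : ∀ i : I, ∃ h : H, h • i0 = i := by
    intro i
    let T : AddSubgroup V :=
      { carrier := {v | ∀ j, j ∉ orbit H i0 → e j v = 0}
        zero_mem' := fun j _ => map_zero (e j)
        add_mem' := fun {a b} ha hb j hj => by rw [map_add, ha j hj, hb j hj, add_zero]
        neg_mem' := fun {a} ha j hj => by rw [map_neg, ha j hj, neg_zero] }
    have hT : Inv H V T := by
      intro h v hv j hj
      have h1 : h⁻¹ • j ∉ orbit H i0 := by
        rintro ⟨g, hg⟩
        exact hj ⟨h * g, by show (h * g) • i0 = j; rw [mul_smul]; exact (inv_smul_eq_iff.mp hg.symm).symm⟩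
      have h2 := hequiv h (h⁻¹ • j) v
      rw [hv _ h1, smul_zero, smul_inv_smul] at h2
      exact h2.symm
    rcases hirr.2 T hT with hb | ht
    · obtain ⟨v, hv⟩ := hne i0
      refine absurd ?_ hv
      have : e i0 v ∈ T := fun j hj =>
        horth j i0 v fun h => hj (h.symm ▸ (mem_orbit_self i0 : i0 ∈ orbit H i0))
      rwa [hb, AddSubgroup.mem_bot] at this
    · by_contra hno
      obtain ⟨v, hv⟩ := hne i
      exact hv ((ht ▸ AddSubgroup.mem_top v : v ∈ T) i fun ⟨g, hg⟩ => hno ⟨g, hg⟩)
  choose tr htr using htrans
  let W : Submodule (ZMod p) V :=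
    { carrier := {v | e i0 v = v}
      zero_mem' := map_zero _
      add_mem' := fun {a b} ha hb => by
        show e i0 (a + b) = a + b
        rw [map_add, ha, hb]
      smul_mem' := fun k v hv => by
        show e i0 (k • v) = k • v
        rw [hK, hv] }
  let H0 : Subgroup H := stabilizer H i0
  have hW : ∀ (h : H0) (v : V), v ∈ W → (h : H) • v ∈ W := by
    intro h v hv
    show e i0 ((h : H) • v) = (h : H) • v
    have h2 := hequiv (h : H) i0 v
    rw [show (h : H) • i0 = i0 from h.2, show e i0 v = v from hv] at h2
    exact h2.symm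
  letI : DistribMulAction H0 W :=
    { smul := fun h w => ⟨(h : H) • (w : V), hW h _ w.2⟩
      one_smul := fun w => Subtype.ext (one_smul H (w : V))
      mul_smul := fun a b w => Subtype.ext (mul_smul (a : H) (b : H) (w : V))
      smul_zero := fun h => Subtype.ext (smul_zero (h : H))
      smul_add := fun h u w => Subtype.ext (smul_add (h : H) (u : V) (w : V)) }
  haveI : SMulCommClass H0 (ZMod p) W := ⟨fun h k w => Subtype.ext (smul_comm (h : H) k (w : V))⟩
  have hcomp : ∀ (i : I) (v : V), (tr i)⁻¹ • e i v ∈ W := by
    intro i v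
    have h1 := hequiv (tr i)⁻¹ i v
    rw [inv_smul_eq_iff.mpr (htr i).symm] at h1
    show e i0 _ = _
    rw [h1, hidem]
  have hirrW : Irr H0 W := by
    refine ⟨?_, fun X hX => ?_⟩
    · obtain ⟨v, hv⟩ := hne i0
      exact ⟨⟨e i0 v, hidem i0 v⟩, fun h => hv (congrArg Subtype.val h)⟩
    let X' : AddSubgroup V := X.map W.subtype.toAddMonoidHom
    let T : AddSubgroup V :=
      { carrier := {v | ∀ (h : H), h⁻¹ • e (h • i0) v ∈ X'}
        zero_mem' := fun h => by rw [map_zero, smul_zero]; exact X'.zero_mem
        add_mem' := fun {a b} ha hb h => by rw [map_add, smul_add]; exact X'.add_mem (ha h) (hb h)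
        neg_mem' := fun {a} ha h => by rw [map_neg, smul_neg]; exact X'.neg_mem (ha h) }
    have hT : Inv H V T := by
      intro g v hv h
      have h1 := hv (g⁻¹ * h)
      have h2 := hequiv g ((g⁻¹ * h) • i0) v
      rw [← mul_smul, mul_inv_cancel_left] at h2
      rw [← h2, ← mul_smul]
      simpa [mul_smul] using h1
    rcases hirr.2 T hT with hb | ht
    · left
      rw [eq_bot_iff]
      intro x hx
      have hxT : (x : V) ∈ T := by
        intro h
        by_cases hh : h • i0 = i0
        · rw [hh, show e i0 (x : V) = x from x.2]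
          exact AddSubgroup.mem_map.mpr
            ⟨_, hX ⟨h⁻¹, inv_mem (mem_stabilizer_iff.mpr hh)⟩ x hx, rfl⟩
        · rw [← show e i0 (x : V) = x from x.2, horth _ _ _ hh, smul_zero]
          exact X'.zero_mem
      rw [hb, AddSubgroup.mem_bot] at hxT
      exact AddSubgroup.mem_bot.mpr (Subtype.ext hxT)
    · right
      rw [eq_top_iff]
      intro x _
      have h1 := (ht ▸ AddSubgroup.mem_top (x : V) : (x : V) ∈ T) 1
      rw [inv_one, one_smul, one_smul, show e i0 (x : V) = x from x.2] at h1
      obtain ⟨y, hy, he⟩ := AddSubgroup.mem_map.mp h1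
      exact (Subtype.ext he : y = x) ▸ hy
  -- the module is a power of a block
  have hsel : ∀ (f : I → W) (j : I), e j (∑ i, tr i • (f i : V)) = tr j • (f j : V) := by
    intro f j
    have hval : ∀ i, tr i • (f i : V) = e i (tr i • (f i : V)) := by
      intro i
      have h3 := hequiv (tr i) i0 (f i : V)
      rwa [htr i, show e i0 (f i : V) = f i from (f i).2] at h3
    rw [map_sum, Finset.sum_eq_single j]
    · exact (hval j).symm
    · intro i _ hij
      rw [hval i]
      exact horth j i _ hij.symm
    · exact fun hj => absurd (Finset.mem_univ j) hj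
  let Ψ : V ≃ₗ[ZMod p] (I → W) :=
    { toFun := fun v i => ⟨(tr i)⁻¹ • e i v, hcomp i v⟩
      map_add' := fun a b => funext fun i => Subtype.ext (by
        show (tr i)⁻¹ • e i (a + b) = (tr i)⁻¹ • e i a + (tr i)⁻¹ • e i b
        rw [map_add, smul_add])
      map_smul' := fun k a => funext fun i => Subtype.ext (by
        show (tr i)⁻¹ • e i (k • a) = k • (tr i)⁻¹ • e i a
        rw [hK, smul_comm])
      invFun := fun f => ∑ i, tr i • (f i : V)
      left_inv := fun v => by simp only [smul_inv_smul]; exact hsum v
      right_inv := fun f => funext fun i => Subtype.ext (by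
        show (tr i)⁻¹ • e i _ = _
        rw [hsel, inv_smul_smul]) }
  haveI : Module.Finite (ZMod p) V := Module.Finite.of_finite
  have hdim : n = Fintype.card I * Module.finrank (ZMod p) W := by
    rw [← hn, Ψ.finrank_eq, Module.finrank_pi_fintype, Finset.sum_const, Finset.card_univ,
      smul_eq_mul]
  set r := Module.finrank (ZMod p) W with hr
  set m := Fintype.card I with hm
  have hm2 : 2 ≤ m := Fintype.one_lt_card_iff.mpr ⟨i0, i1, h01⟩
  have hr1 : 0 < r := by
    obtain ⟨w, hw⟩ := hirrW.1
    exact Module.finrank_pos_iff_exists_ne_zero.mpr ⟨w, hw⟩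
  haveI : Group.IsSolvable H := hsol
  haveI : IsPretransitive H I := ⟨fun a b => ⟨tr b * (tr a)⁻¹, by
    rw [mul_smul, inv_smul_eq_iff.mpr (htr a).symm, htr]⟩⟩
  have hidx : H0.index = m := by
    rw [index_stabilizer_of_transitive, Nat.card_eq_fintype_card]
  let P : Subgroup H := (toPermHom H I).ker
  have hP : ∀ h ∈ P, ∀ i : I, h • i = i := fun h hh i =>
    Equiv.ext_iff.mp (MonoidHom.mem_ker.mp hh) i
  -- coordinates
  let comp : I → V → W := fun i v => ⟨(tr i)⁻¹ • e i v, hcomp i v⟩
  have hmove : ∀ (h : H) (i : I), (tr (h • i))⁻¹ * h * tr i ∈ H0 := fun h i => by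
    rw [mem_stabilizer_iff, mul_smul, mul_smul, htr i, inv_smul_eq_iff, htr]
  have hcompmove : ∀ (h : H) (i : I) (v : V),
      comp (h • i) (h • v) = (⟨_, hmove h i⟩ : H0) • comp i v := by
    intro h i v
    apply Subtype.ext
    show (tr (h • i))⁻¹ • e (h • i) (h • v) = ((tr (h • i))⁻¹ * h * tr i) • ((tr i)⁻¹ • e i v)
    rw [← hequiv, mul_smul, mul_smul, smul_inv_smul]
  rcases Nat.lt_or_ge r 2 with hr2 | hr2
  · -- monomial
    have hr_one : Module.finrank (ZMod p) W = 1 := by omega
    obtain ⟨w0, -, hw0⟩ := finrank_eq_one_iff'.mp hr_one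
    have hcomm : ∀ a ∈ P, ∀ b ∈ P, b * a = a * b := by
      intro a ha b hb
      refine eq_of_smul_eq_smul (α := V) fun v => ?_
      rw [← hsum v, Finset.smul_sum, Finset.smul_sum]
      refine Finset.sum_congr rfl fun i _ => ?_
      obtain ⟨c, hc⟩ := hw0 (comp i v)
      have hscal : ∀ y : H0, ∃ z : ZMod p, ∀ x : W, y • x = z • x := by
        intro y
        obtain ⟨z, hz⟩ := hw0 (y • w0)
        refine ⟨z, fun x => ?_⟩
        obtain ⟨d, hd⟩ := hw0 x
        rw [← hd, smul_comm y d w0, ← hz, smul_comm]
      have hPH : ∀ y ∈ P, (tr i)⁻¹ * y * tr i ∈ H0 := fun y hy => by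
        have h := hmove y i
        rwa [hP y hy i] at h
      obtain ⟨za, hza⟩ := hscal ⟨_, hPH a ha⟩
      obtain ⟨zb, hzb⟩ := hscal ⟨_, hPH b hb⟩
      have h2 : (⟨_, hPH b hb⟩ : H0) • (⟨_, hPH a ha⟩ : H0) • comp i v =
          (⟨_, hPH a ha⟩ : H0) • (⟨_, hPH b hb⟩ : H0) • comp i v := by
        rw [hza, hzb, hzb, hza, smul_comm]
      have h3 : ((tr i)⁻¹ * b * tr i) • ((tr i)⁻¹ * a * tr i) • ((tr i)⁻¹ • e i v) =
          ((tr i)⁻¹ * a * tr i) • ((tr i)⁻¹ * b * tr i) • ((tr i)⁻¹ • e i v) :=
        congrArg Subtype.val h2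
      simp only [mul_smul, smul_inv_smul, smul_left_cancel_iff] at h3
      rw [mul_smul, mul_smul]
      exact h3
    have hprod := prod_bound (V := V) P P hcomm
    have hbound := perm_bound m H I inferInstance (Nat.card_eq_fintype_card)
    have hVcard : Nat.card V = p ^ n := by
      rw [Module.natCard_eq_pow_finrank (K := ZMod p), hn, Nat.card_zmod]
    rw [hVcard] at hprod
    refine good_of_index (by omega) (by rw [hdim]; nlinarith) hprod ?_
    have hnm : n = m := by rw [hdim, hr, hr_one, mul_one]
    rw [hnm]
    change P.index ^ 3 ≤ _ at hbound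
    exact monomial_ok hp hm2 hbound
  · -- blocks of dimension at least two
    let φ : H0 ⧸ BaseTwo.ker H0 W →* AddMonoid.End W :=
      QuotientGroup.lift _ (DistribMulAction.toAddMonoidEnd H0 W) fun h hh => by
        rw [MonoidHom.mem_ker]
        exact AddMonoidHom.ext fun v => mem_ker.mp hh v
    letI : DistribMulAction (H0 ⧸ BaseTwo.ker H0 W) W := DistribMulAction.compHom W φ
    have hsmul : ∀ (h : H0) (v : W), (QuotientGroup.mk' (BaseTwo.ker H0 W) h) • v = h • v :=
      fun _ _ => rfl
    haveI : FaithfulSMul (H0 ⧸ BaseTwo.ker H0 W) W := ⟨fun {a b} hab => by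
      obtain ⟨x, rfl⟩ := QuotientGroup.mk'_surjective _ a
      obtain ⟨y, rfl⟩ := QuotientGroup.mk'_surjective _ b
      apply (QuotientGroup.eq (s := BaseTwo.ker H0 W)).mpr
      rw [mem_ker]
      intro v
      have h1 : x • v = y • v := hab v
      rw [mul_smul, ← h1, inv_smul_smul]⟩
    haveI : SMulCommClass (H0 ⧸ BaseTwo.ker H0 W) (ZMod p) W := ⟨fun x k v => by
      obtain ⟨h, rfl⟩ := QuotientGroup.mk'_surjective _ x
      rw [hsmul, hsmul, smul_comm]⟩
    have hirr' : Irr (H0 ⧸ BaseTwo.ker H0 W) W := by
      refine ⟨hirrW.1, fun U hU => hirrW.2 U fun h v hv => ?_⟩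
      rw [← hsmul]
      exact hU _ v hv
    have hgood := hb r (by rw [hdim]; nlinarith) hr2 W (H0 ⧸ BaseTwo.ker H0 W) hirr'
      (Group.isSolvable_of_surjective (QuotientGroup.mk'_surjective _)) rfl
    set Y := H0 ⧸ BaseTwo.ker H0 W
    refine good_block ?_ hm2 ?_ hgood
    · refine (classes_surj_le _ (QuotientGroup.mk'_surjective _)).trans ?_
      exact (classes_subgroup_le H0).trans (by rw [hidx])
    · obtain ⟨w, hw0, hw⟩ := exists_reps (H := Y) (V := W)
      let rb := orbCount Y W
      let cl : W → MulAction.orbitRel.Quotient Y W := fun x => Quotient.mk'' x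
      have hcl : ∀ (y : Y) (x : W), cl (y • x) = cl x := fun y x => Quotient.sound' (by
        rw [orbitRel_apply]; exact ⟨y, rfl⟩)
      have hclw : ∀ a b, cl (w a) = cl (w b) → a = b := by
        intro a b h
        have hrel : orbitRel Y W (w a) (w b) := Quotient.exact' h
        rw [orbitRel_apply] at hrel
        obtain ⟨y, hy⟩ := hrel
        exact (hw b a y hy).symm
      have hcl0 : ∀ a, cl 0 ≠ cl (w a) := by
        intro a h
        have hrel : orbitRel Y W 0 (w a) := Quotient.exact' h
        rw [orbitRel_apply] at hrel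
        obtain ⟨y, hy⟩ := hrel
        exact hw0 a ((smul_eq_zero_iff_eq y).mp hy)
      let F : V → Fin rb → ℕ := fun v j =>
        (Finset.univ.filter fun i : I => cl (comp i v) = cl (w j)).card
      have hF : ∀ (h : H) (v : V), F (h • v) = F v := by
        intro h v
        funext j
        refine (Finset.card_bij (fun i _ => h • i) ?_ ?_ ?_).symm
        · intro i hi
          rw [Finset.mem_filter] at hi ⊢
          refine ⟨Finset.mem_univ _, ?_⟩
          rw [hcompmove, ← hsmul, hcl]
          exact hi.2
        · intro a _ b _ hab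
          exact smul_left_cancel h hab
        · intro i hi
          refine ⟨h⁻¹ • i, ?_, smul_inv_smul h i⟩
          rw [Finset.mem_filter] at hi ⊢
          refine ⟨Finset.mem_univ _, ?_⟩
          have h2 := hi.2
          rw [← smul_inv_smul h i, hcompmove, ← hsmul, hcl] at h2
          exact h2
      let mk : (I → W) → V := fun f => Ψ.symm f
      have hmk : ∀ (f : I → W) (i : I), comp i (mk f) = f i := fun f i =>
        congrFun (Ψ.apply_symm_apply f) i
      let em : I ≃ Fin m := Fintype.equivFin I
      have hex : ∀ s : {s : Finset (Fin rb) // s.card = 2}, ∃ a b, a ≠ b ∧ s.1 = {a, b} :=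
        fun s => Finset.card_eq_two.mp s.2
      choose pa pb hpab hpeq using hex
      let fam : (Fin m × Fin rb) ⊕ {s : Finset (Fin rb) // s.card = 2} → (I → W) :=
        Sum.elim (fun q i => if em i ≤ q.1 then w q.2 else 0)
          (fun s i => if (em i : ℕ) = 0 then w (pa s) else if (em i : ℕ) = 1 then w (pb s) else 0)
      have hone : ∀ (q : Fin m × Fin rb) (j : Fin rb),
          F (mk (fam (Sum.inl q))) j = if j = q.2 then (q.1 : ℕ) + 1 else 0 := by
        intro q j
        show (Finset.univ.filter fun i : I => cl (comp i _) = cl (w j)).card = _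
        split_ifs with hj
        · subst hj
          rw [← Fin.card_Iic q.1]
          refine Finset.card_equiv em fun i => ?_
          rw [Finset.mem_filter, hmk, Finset.mem_Iic]
          simp only [fam, Sum.elim_inl, Finset.mem_univ, true_and]
          split_ifs with h
          · simp [h]
          · exact iff_of_false (hcl0 _) h
        · rw [Finset.card_eq_zero, Finset.filter_eq_empty_iff]
          intro i _ h
          rw [hmk] at h
          simp only [fam, Sum.elim_inl] at h
          split_ifs at h with h'
          · exact hj (hclw _ _ h).symm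
          · exact hcl0 _ h
      have htwo : ∀ (s : {s : Finset (Fin rb) // s.card = 2}) (j : Fin rb),
          (0 < F (mk (fam (Sum.inr s))) j ↔ j ∈ s.1) := by
        intro s j
        rw [hpeq s, Finset.mem_insert, Finset.mem_singleton]
        show 0 < (Finset.univ.filter fun i : I => cl (comp i _) = cl (w j)).card ↔ _
        rw [Finset.card_pos]
        constructor
        · rintro ⟨i, hi⟩
          rw [Finset.mem_filter, hmk] at hi
          simp only [fam, Sum.elim_inr] at hi
          obtain ⟨-, hi⟩ := hi
          split_ifs at hi with h h'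
          · exact Or.inl (hclw _ _ hi).symm
          · exact Or.inr (hclw _ _ hi).symm
          · exact absurd hi (hcl0 _)
        · rintro (rfl | rfl)
          · refine ⟨em.symm ⟨0, by omega⟩, ?_⟩
            rw [Finset.mem_filter, hmk]
            simp [fam]
          · refine ⟨em.symm ⟨1, by omega⟩, ?_⟩
            rw [Finset.mem_filter, hmk]
            simp [fam]
      have hinj : Function.Injective fun q => F (mk (fam q)) := by
        rintro (⟨a, j⟩ | s) (⟨b, j'⟩ | s') h
        · have h' := congrFun h j
          simp only [hone, if_true] at h'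
          split_ifs at h' with hjj
          subst hjj
          exact congrArg (fun x => Sum.inl (x, j)) (Fin.ext (by omega))
        · exfalso
          have hm := fun x => (htwo s' x).symm.trans (iff_of_eq (congrArg (0 < ·) (congrFun h x).symm))
          obtain ⟨u, v, huv, he⟩ := Finset.card_eq_two.mp s'.2
          have hu := (hm u).mp (by rw [he]; simp)
          have hv := (hm v).mp (by rw [he]; simp)
          simp only at hu hv
          rw [hone] at hu hv
          split_ifs at hu with h1
          · split_ifs at hv with h2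
            · exact huv (h1.trans h2.symm)
            · omega
          · omega
        · exfalso
          have hm := fun x => (htwo s x).symm.trans (iff_of_eq (congrArg (0 < ·) (congrFun h x)))
          obtain ⟨u, v, huv, he⟩ := Finset.card_eq_two.mp s.2
          have hu := (hm u).mp (by rw [he]; simp)
          have hv := (hm v).mp (by rw [he]; simp)
          simp only at hu hv
          rw [hone] at hu hv
          split_ifs at hu with h1
          · split_ifs at hv with h2
            · exact huv (h1.trans h2.symm)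
            · omega
          · omega
        · refine congrArg Sum.inr (Subtype.ext (Finset.ext fun x => ?_))
          rw [← htwo s x, ← htwo s' x, show F (mk (fam (Sum.inr s))) = F (mk (fam (Sum.inr s'))) from h]
      have hle := le_orbCount (H := H) F hF (fun q => mk (fam q)) (fun q hq => by
        have hz : ∀ j, F (mk (fam q)) j = 0 := fun j => by
          rw [hq]
          show (Finset.univ.filter fun i : I => cl (comp i 0) = cl (w j)).card = 0
          rw [Finset.card_eq_zero, Finset.filter_eq_empty_iff]
          intro i _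
          rw [show comp i 0 = 0 from Subtype.ext (by
            show (tr i)⁻¹ • e i 0 = 0
            rw [map_zero, smul_zero])]
          exact hcl0 j
        rcases q with q | s
        · have := hz q.2
          rw [hone, if_pos rfl] at this
          omega
        · obtain ⟨u, v, -, he⟩ := Finset.card_eq_two.mp s.2
          have := (htwo s u).mpr (by rw [he]; simp)
          rw [hz] at this
          omega) hinj
      rw [Nat.card_sum, Nat.card_prod, Nat.card_fin, Nat.card_fin, Nat.card_eq_fintype_card,
        Fintype.card_finset_len, Fintype.card_fin, Nat.choose_two_right] at hle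
      exact hle

end Cfsg.Agent.K94
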