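import Cfsg.Agent.K94.Two

/-!
# Small dimensions
-/

set_option autoImplicit false
set_option linter.style.haveILetI false

namespace Cfsg.Agent.K94

open Cfsg.Agent.BC85 Cfsg.Agent.BC85.BaseTwo
open scoped commutatorElement

theorem finish_three {p k r z X : ℕ} (hp : p.Prime) (hp11 : 11 ≤ p) (hz : z ∣ p - 1) (h3 : 3 ∣ z)
    (hk : 8 * z ≤ 3 * k) (hX : X ≤ 24) (hr : p ^ 3 - 1 ≤ r * (z * (3 ^ 2 * X)))
    (hprod : p ^ 3 - 1 ≤ k * r * (3 ^ 2 * X)) : Good p k r := by
  have h3p : 3 ∣ p - 1 := h3.trans hz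
  rcases Nat.lt_or_ge p 37 with hp37 | hp37
  · have hr' : p ^ 3 - 1 ≤ r * (z * 216) := hr.trans (by gcongr; omega)
    have hz0 : 0 < z := by
      rcases Nat.eq_zero_or_pos z with rfl | h
      · have := zero_dvd_iff.mp hz
        omega
      · exact h
    have hkey : ∀ z ∈ Finset.range 31, ∀ p ∈ Finset.range 37, p.Prime → 11 ≤ p → z ∣ p - 1 → 3 ∣ z →
        2401 * p ^ 2 ≤ 14400 * (((8 * z + 2) / 3) * ((p ^ 3 - 1 + (z * 216 - 1)) / (z * 216))) := by
      decide +kernel
    have hzp : z ≤ p - 1 := Nat.le_of_dvd (by omega) hz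
    have hp32 : p ≤ 31 := by
      by_contra h
      interval_cases p <;> first | omega | norm_num at hp
    refine Or.inl ((hkey z (Finset.mem_range.mpr (by omega)) p (Finset.mem_range.mpr hp37) hp hp11 hz h3).trans
      (Nat.mul_le_mul_left _ (Nat.mul_le_mul (by omega) ?_)))
    exact (Nat.div_le_iff_le_mul_add_pred (by positivity)).mpr (Nat.add_le_add_right (hr'.trans (Nat.mul_comm _ _).le) _)
  · refine good_of_index (by omega) (by norm_num) hprod ?_
    refine le_trans (Nat.mul_le_mul_left _ (show 3 ^ 2 * X ≤ 216 by omega)) ?_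
    have h2 : 37 * p ^ 2 ≤ p ^ 3 := by rw [pow_succ' p 2]; exact Nat.mul_le_mul_right _ hp37
    have h4 : 1369 ≤ p ^ 2 := Nat.pow_le_pow_left hp37 2
    omega

theorem finish_four {p k r z X : ℕ} (hp : p.Prime) (hp11 : 11 ≤ p) (hz : z ∣ p - 1) (h2 : 2 ∣ z)
    (hk : 2 * z + z / 2 + (z + 3) / 4 ≤ k) (hX : X ≤ 144)
    (hr : p ^ 4 - 1 ≤ r * (z * (4 ^ 2 * X))) (hprod : p ^ 4 - 1 ≤ k * r * (4 ^ 2 * X)) :
    Good p k r := by
  rcases Nat.lt_or_ge p 20 with hp20 | hp20
  · have hr' : p ^ 4 - 1 ≤ r * (z * 2304) := hr.trans (by gcongr; omega)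
    have hz0 : 0 < z := by
      rcases Nat.eq_zero_or_pos z with rfl | h
      · have := zero_dvd_iff.mp hz
        omega
      · exact h
    have hkey : ∀ z ∈ Finset.range 19, ∀ p ∈ Finset.range 20, p.Prime → 11 ≤ p → z ∣ p - 1 → 2 ∣ z →
        2401 * p ^ 2 ≤ 14400 * ((2 * z + z / 2 + (z + 3) / 4) *
          ((p ^ 4 - 1 + (z * 2304 - 1)) / (z * 2304))) := by
      decide +kernel
    have hzp : z ≤ p - 1 := Nat.le_of_dvd (by omega) hz
    refine Or.inl ((hkey z (Finset.mem_range.mpr (by omega)) p (Finset.mem_range.mpr hp20) hp hp11 hz h2).trans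
      (Nat.mul_le_mul_left _ (Nat.mul_le_mul hk ?_)))
    exact (Nat.div_le_iff_le_mul_add_pred (by positivity)).mpr (Nat.add_le_add_right (hr'.trans (Nat.mul_comm _ _).le) _)
  · refine good_of_index (by omega) (by norm_num) hprod ?_
    refine le_trans (Nat.mul_le_mul_left _ (show 4 ^ 2 * X ≤ 2304 by omega)) ?_
    have h5 : 400 * p ^ 2 ≤ p ^ 4 := by
      rw [show p ^ 4 = p ^ 2 * p ^ 2 by ring]
      exact Nat.mul_le_mul_right _ (Nat.pow_le_pow_left hp20 2)
    have h4 : 400 ≤ p ^ 2 := Nat.pow_le_pow_left hp20 2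
    omega

theorem finish_two {p k r z : ℕ} (hp11 : 11 ≤ p) (hz : z ∣ p - 1) (h2 : 2 ∣ z) (hk : 4 * z ≤ k)
    (hr : p ^ 2 - 1 ≤ r * (z * (2 ^ 2 * 6))) : Good p k r := by
  refine Or.inr ⟨z, 1, r, one_pos, hz, h2, by omega, hr.trans (le_of_eq (by ring)), by omega,
    fun h => absurd h (by omega)⟩

/-- The section fills the dimension. -/
theorem good_small_section {p : ℕ} [Fact p.Prime] (hp : 11 ≤ p) {H V : Type} [Group H] [Finite H]
    [Group.IsSolvable H] [AddCommGroup V] [Finite V] [DistribMulAction H V] [FaithfulSMul H V]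
    {K : Type} [Field K] [Module K V] [SMulCommClass H K V] {U : Subgroup H} [U.Normal]
    (hc : U ≤ Subgroup.center H) {N : Subgroup H} (hN : IsSec U N) (ι : U →* Kˣ)
    (hι : Function.Injective ι) (hιv : ∀ (u : U) (v : V), (u : H) • v = (ι u : K) • v)
    {n e : ℕ} (hn : Module.finrank K V = n) (hne : n = e) (he : U.relIndex N = e ^ 2)
    (hX : (e = 2 → N.index ≤ 6) ∧ (e = 3 → N.index ≤ 24) ∧ (e = 4 → N.index ≤ 144) ∧
      (2 ≤ e ∧ e ≤ 4))
    (hz : Nat.card U ∣ p - 1) (hV : Nat.card V = p ^ n)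
    (hprod : p ^ n - 1 ≤ Nat.card (ConjClasses H) * orbCount H V *
      ((Subgroup.centralizer (U : Set H)).index ^ 2 *
        (e ^ 2 * N.relIndex (Subgroup.centralizer (U : Set H)))))
    (horb : p ^ n - 1 ≤ orbCount H V * (Nat.card U * (e ^ 2 * N.index))) :
    Good p (Nat.card (ConjClasses H)) (orbCount H V) := by
  haveI : Module.Finite K V := Module.Finite.of_finite
  have hC : Subgroup.centralizer (U : Set H) = ⊤ := eq_top_iff.mpr fun g _ =>
    Subgroup.mem_centralizer_iff.mpr fun u hu => (Subgroup.mem_center_iff.mp (hc hu) g).symm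
  rw [hC, Subgroup.index_top, one_pow, one_mul, Subgroup.relIndex_top_right] at hprod
  subst hne
  obtain ⟨h2, h3, h4, hlo, hhi⟩ := hX
  have hi0 : N.index ≠ 0 := Subgroup.index_ne_zero_of_finite
  by_cases hsmall : N.index ≤ 2 ∧ n ≠ 2
  · refine good_of_index (by omega) (by omega) hprod ?_
    rcases Nat.lt_or_ge n 4 with hn4 | hn4
    · obtain rfl : n = 3 := by omega
      exact index_ok3 hp (by norm_num; omega)
    · obtain rfl : n = 4 := by omega
      exact index_ok hp le_rfl (by norm_num; omega)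
  interval_cases n
  · -- dimension two
    haveI : Fact (Nat.Prime 2) := ⟨Nat.prime_two⟩
    have h2z : 2 ∣ Nat.card U := dvd_card_scalars hN he
    have hdvd := index_dvd_six hN hC (by rw [he]; norm_num)
    have hcases : N.index = 1 ∨ N.index = 2 ∨ N.index = 3 ∨ N.index = 6 := by
      have := h2 rfl
      interval_cases h : N.index <;> simp_all
    by_cases h6 : N.index = 6
    · refine finish_two hp hz h2z (classes_two ι hι hιv hn hc hN (by rw [he]; norm_num) h6) ?_
      rw [h6] at horb
      exact horb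
    have hp2 : 121 ≤ p ^ 2 := Nat.pow_le_pow_left hp 2
    by_cases h3' : N.index = 3
    · obtain ⟨c₀, c₁, c₂, c₃, e0, e1, e2, -, -, hsum⟩ := four_classes ι hι hιv hn hc hN he
        (fun l hl hd => (Nat.prime_dvd_prime_iff_eq hl Nat.prime_two).mp hd) two_pos (by omega)
      left
      rw [h3'] at horb
      have hmul := Nat.mul_le_mul_left (orbCount H V)
        (show 5 * Nat.card U ≤ 2 * Nat.card (ConjClasses H) by omega)
      generalize Nat.card (ConjClasses H) = k at hmul ⊢
      generalize orbCount H V = r at hmul horb ⊢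
      generalize Nat.card U = z at hmul horb
      have a1 : r * (z * (2 ^ 2 * 3)) = 12 * (r * z) := by ring
      have a2 : r * (5 * z) = 5 * (r * z) := by ring
      have a3 : r * (2 * k) = 2 * (k * r) := by ring
      omega
    · left
      have hidx : N.index ≤ 2 := by omega
      have hk : 3 * Nat.card U ≤ 2 * Nat.card (ConjClasses H) := by
        obtain ⟨n0, hn0N, hn0U⟩ : ∃ n0 ∈ N, n0 ∉ U := by
          by_contra hh
          push Not at hh
          exact hN.ne (le_antisymm hh hN.le)
        obtain ⟨c, hc1, hc2⟩ := exists_classes U hc ![1, n0] ![1, 2] (fun i j hij => by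
          fin_cases i <;> fin_cases j <;> try rfl
          all_goals exfalso; apply hn0U; apply (QuotientGroup.eq_one_iff n0).mp
          · exact isConj_one_right.mp (by simpa using hij)
          · exact isConj_one_left.mp (by simpa using hij))
          (fun i => by
            fin_cases i
            · exact card_moves_le U ι hι one_pos fun u hu => moves_pow U hc (by simp [U.one_mem]) hu
            · exact card_moves_le U ι hι two_pos fun u hu => moves_det ι hιv hn hu hι)
        have e0 := (hc1 0).2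
        have e1 := (hc1 1).2
        rw [Fin.sum_univ_two] at hc2
        simp only [Matrix.cons_val_zero, Matrix.cons_val_one, one_mul] at e0 e1
        omega
      generalize Nat.card (ConjClasses H) = k at hk ⊢
      generalize orbCount H V = r at horb ⊢
      generalize Nat.card U = z at hk horb
      have h1 : r * (3 * z) ≤ r * (2 * k) := Nat.mul_le_mul_left _ hk
      have h5 : r * (z * (2 ^ 2 * N.index)) ≤ r * (z * (2 ^ 2 * 2)) := by gcongr
      have a1 : r * (z * (2 ^ 2 * 2)) = 8 * (r * z) := by ring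
      have a2 : r * (3 * z) = 3 * (r * z) := by ring
      have a3 : r * (2 * k) = 2 * (k * r) := by ring
      omega
  · -- dimension three
    haveI : Fact (Nat.Prime 3) := ⟨Nat.prime_three⟩
    have h3z : 3 ∣ Nat.card U := dvd_card_scalars hN he
    obtain ⟨c₀, c₁, c₂, c₃, e0, e1, e2, e3, -, hsum⟩ := four_classes ι hι hιv hn hc hN he
      (fun l hl hd => (Nat.prime_dvd_prime_iff_eq hl Nat.prime_three).mp hd) three_pos (by omega)
    exact finish_three Fact.out hp hz h3z (by omega) (h3 rfl) horb hprod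
  · -- dimension four
    haveI : Fact (Nat.Prime 2) := ⟨Nat.prime_two⟩
    have he' : U.relIndex N = 2 ^ 4 := by rw [he]; norm_num
    have h2z : 2 ∣ Nat.card U := dvd_card_scalars hN he'
    obtain ⟨c₀, c₁, c₂, c₃, e0, e1, e2, e3, -, hsum⟩ := four_classes ι hι hιv hn hc hN he'
      (fun l hl hd => (Nat.prime_dvd_prime_iff_eq hl Nat.prime_two).mp
        (hl.dvd_of_dvd_pow (show l ∣ 2 ^ 2 from hd))) (by norm_num) (by omega)
    exact finish_four Fact.out hp hz h2z (by omega) (h4 rfl) horb hprod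

end Cfsg.Agent.K94
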