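import Mathlib

/-!
# Classes above a central cyclic subgroup
-/

set_option autoImplicit false
set_option linter.style.haveILetI false

namespace Cfsg.Agent.K94

variable {H : Type} [Group H] [Finite H] (U : Subgroup H) [U.Normal]

/-- The scalars moving `g` inside its class. -/
def moves (g : H) : Set U := {u | IsConj g ((u : H) * g)}

theorem moves_pow (hc : U ≤ Subgroup.center H) {g : H} {o : ℕ} (ho : g ^ o ∈ U) {u : U}
    (hu : u ∈ moves U g) : u ^ o = 1 := by
  obtain ⟨c, hcc⟩ := isConj_iff.mp (hu : IsConj g ((u : H) * g))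
  have hz : ∀ v : U, ∀ y : H, Commute (v : H) y := fun v y =>
    (Subgroup.mem_center_iff.mp (hc v.2) y).symm
  have h1 : (c * g * c⁻¹) ^ o = ((u : H) * g) ^ o := by rw [hcc]
  rw [conj_pow, (hz u g).mul_pow, ← (hz ⟨_, ho⟩ c).eq, mul_inv_cancel_right] at h1
  exact Subtype.ext (mul_eq_right.mp h1.symm)

theorem card_moves_le {K : Type*} [Field K] (ι : U →* Kˣ) (hι : Function.Injective ι) {g : H}
    {o : ℕ} (ho : 0 < o) (h : ∀ u ∈ moves U g, u ^ o = 1) : Nat.card (moves U g) ≤ o := by
  classical
  let f : moves U g → {x : K // x ∈ (Polynomial.nthRoots o (1 : K)).toFinset} := fun u =>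
    ⟨(ι u.1 : K), by
      rw [Multiset.mem_toFinset, Polynomial.mem_nthRoots ho, ← Units.val_pow_eq_pow_val, ← map_pow,
        h _ u.2, map_one, Units.val_one]⟩
  have hf : Function.Injective f := fun a b e =>
    Subtype.ext (hι (Units.ext (congrArg Subtype.val e)))
  refine (Nat.card_le_card_of_injective f hf).trans ?_
  rw [Nat.card_eq_fintype_card, Fintype.card_coe]
  exact (Multiset.toFinset_card_le _).trans (Polynomial.card_nthRoots o 1)

/-- Classes over pairwise inequivalent cosets. -/
theorem exists_classes {J : Type*} [Fintype J] (hc : U ≤ Subgroup.center H) (g : J → H) (m : J → ℕ)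
    (hne : ∀ i j, IsConj (QuotientGroup.mk' U (g i)) (QuotientGroup.mk' U (g j)) → i = j)
    (hm : ∀ i, Nat.card (moves U (g i)) ≤ m i) :
    ∃ c : J → ℕ, (∀ i, 1 ≤ c i ∧ Nat.card U ≤ m i * c i) ∧
      ∑ i, c i ≤ Nat.card (ConjClasses H) := by
  classical
  let S : J → Set (ConjClasses H) := fun i => Set.range fun u : U => ConjClasses.mk ((u : H) * g i)
  refine ⟨fun i => Nat.card (S i), fun i => ⟨?_, ?_⟩, ?_⟩
  · haveI : Nonempty (S i) := ⟨⟨_, 1, rfl⟩⟩
    exact Nat.card_pos
  · have hrep : ∀ c : S i, ∃ u : U, ConjClasses.mk ((u : H) * g i) = c.1 := fun c => c.2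
    choose rep hrep using hrep
    let cl : U → S i := fun u => ⟨_, u, rfl⟩
    have hmem : ∀ u : U, (rep (cl u))⁻¹ * u ∈ moves U (g i) := by
      intro u
      obtain ⟨c, hcc⟩ := isConj_iff.mp (ConjClasses.mk_eq_mk_iff_isConj.mp (hrep (cl u)))
      refine isConj_iff.mpr ⟨c, ?_⟩
      rw [Subgroup.coe_mul, Subgroup.coe_inv, mul_assoc _ (u : H) (g i), ← hcc]
      have hz := Subgroup.mem_center_iff.mp (hc (rep (cl u)).2) c
      calc c * g i * c⁻¹
          = (rep (cl u) : H)⁻¹ * ((rep (cl u) : H) * c) * g i * c⁻¹ := by group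
        _ = _ := by rw [← hz]; group
    let f : U → moves U (g i) × S i := fun u => (⟨_, hmem u⟩, cl u)
    have hf : Function.Injective f := by
      intro a b h
      have h1 : cl a = cl b := congrArg Prod.snd h
      have h2 : (rep (cl a))⁻¹ * a = (rep (cl b))⁻¹ * b :=
        congrArg (fun s => (s.1 : U)) h
      rw [h1] at h2
      exact mul_left_cancel h2
    have h := Nat.card_le_card_of_injective f hf
    rw [Nat.card_prod] at h
    exact h.trans (Nat.mul_le_mul_right _ (hm i))
  · rw [← Nat.card_sigma]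
    refine Nat.card_le_card_of_injective (fun x : Σ i, S i => x.2.1) ?_
    rintro ⟨i, ⟨_, a, rfl⟩⟩ ⟨j, ⟨_, b, rfl⟩⟩ h
    have h' : ConjClasses.mk ((a : H) * g i) = ConjClasses.mk ((b : H) * g j) := h
    have hij : i = j := by
      refine hne i j ?_
      have h2 := (QuotientGroup.mk' U).map_isConj (ConjClasses.mk_eq_mk_iff_isConj.mp h')
      rwa [map_mul, map_mul, show QuotientGroup.mk' U (a : H) = 1 from (QuotientGroup.eq_one_iff _).mpr a.2,
        show QuotientGroup.mk' U (b : H) = 1 from (QuotientGroup.eq_one_iff _).mpr b.2, one_mul,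
        one_mul] at h2
    subst hij
    exact Sigma.ext rfl (heq_of_eq (Subtype.ext h'))

/-- In dimension two an element conjugate to a proper scalar multiple squares to a scalar. -/
theorem sq_scalar {K V : Type} [Field K] [AddCommGroup V] [Module K V] [DistribMulAction H V]
    [SMulCommClass H K V] (hfr : Module.finrank K V = 2) (ι : U →* Kˣ)
    (hιv : ∀ (u : U) (v : V), (u : H) • v = (ι u : K) • v) {g : H} {u : U}
    (hu : u ∈ moves U g) (hu1 : ι u ≠ 1) : ∃ c : K, ∀ v : V, g • g • v = c • v := by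
  classical
  haveI : Module.Finite K V := Module.finite_of_finrank_eq_succ hfr
  let b : Module.Basis (Fin 2) K V := Module.finBasisOfFinrankEq K V hfr
  let L : H →* Module.End K V := DistribMulAction.toModuleEnd K V
  obtain ⟨c, hc⟩ := isConj_iff.mp (hu : IsConj g ((u : H) * g))
  have h1 : LinearMap.trace K V (L (c * g * c⁻¹)) = LinearMap.trace K V (L g) := by
    rw [map_mul L, map_mul L, LinearMap.trace_mul_comm, ← mul_assoc, ← map_mul L, inv_mul_cancel, map_one L,
      one_mul]
  have h2 : L ((u : H) * g) = (ι u : K) • L g := LinearMap.ext fun v => by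
    show ((u : H) * g) • v = (ι u : K) • (g • v)
    rw [mul_smul, hιv]
  rw [hc, h2, map_smul, smul_eq_mul] at h1
  have htr : LinearMap.trace K V (L g) = 0 := by
    by_contra hne
    exact hu1 (Units.ext (mul_right_cancel₀ hne (by rw [h1, Units.val_one, one_mul])))
  rw [LinearMap.trace_eq_matrix_trace K b, Matrix.trace_fin_two] at htr
  set M := LinearMap.toMatrix b b (L g) with hM
  refine ⟨M 0 0 * M 0 0 + M 0 1 * M 1 0, fun v => ?_⟩
  have hsq : M * M = (M 0 0 * M 0 0 + M 0 1 * M 1 0) • (1 : Matrix (Fin 2) (Fin 2) K) := by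
    have h11 : M 1 1 = - M 0 0 := eq_neg_of_add_eq_zero_right htr
    ext i j
    fin_cases i <;> fin_cases j <;> simp [Matrix.mul_apply, Fin.sum_univ_two, h11] <;> ring
  have hL : L g * L g = (M 0 0 * M 0 0 + M 0 1 * M 1 0) • (1 : Module.End K V) := by
    apply (LinearMap.toMatrix b b).injective
    rw [LinearMap.toMatrix_mul, map_smul, LinearMap.toMatrix_one]
    exact hsq
  exact LinearMap.congr_fun hL v

end Cfsg.Agent.K94
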