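import Mathlib

/-!
# At most four classes
-/

set_option autoImplicit false
set_option linter.style.haveILetI false

namespace Cfsg.Agent.K94

theorem eq_three {N a b : ℕ} (hab : a ≤ b) (hN : 1 + a + b = N) (ha : a ∣ N) (hb : b ∣ N) :
    N ≤ 6 := by
  obtain ⟨x, hx⟩ := hb
  rcases Nat.lt_or_ge b 2 with h | h
  · omega
  have hx3 : x < 3 := by
    by_contra h'
    push Not at h'
    have := Nat.mul_le_mul_left b h'
    omega
  have hx2 : x = 2 := by
    interval_cases x <;> omega
  subst hx2
  obtain rfl : b = a + 1 := by omega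
  have h2 : a ∣ 2 := (Nat.dvd_add_right (dvd_mul_left a 2)).mp (by
    rw [show 2 * a + 2 = N by omega]; exact ha)
  have := Nat.le_of_dvd two_pos h2
  omega

theorem eq_four {N a b c : ℕ} (hab : a ≤ b) (hbc : b ≤ c) (hN : 1 + a + b + c = N)
    (ha : a ∣ N) (hb : b ∣ N) (hc : c ∣ N) : N ≤ 42 := by
  obtain ⟨x, hx⟩ := hc
  rcases Nat.lt_or_ge c 2 with h | h
  · omega
  have hx4 : x < 4 := by
    by_contra h'
    push Not at h'
    have := Nat.mul_le_mul_left c h'
    omega
  obtain hx2 | hx3 : x = 2 ∨ x = 3 := by interval_cases x <;> omega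
  · subst hx2
    have h1 : b ∣ 2 * a + 2 := (Nat.dvd_add_right (dvd_mul_left b 2)).mp (by
      rw [show 2 * b + (2 * a + 2) = N by omega]; exact hb)
    obtain ⟨y, hy⟩ := h1
    rcases Nat.lt_or_ge b 3 with hb3 | hb3
    · omega
    have hy3 : y < 3 := by
      by_contra h'
      push Not at h'
      have := Nat.mul_le_mul_left b h'
      omega
    obtain hy1 | hy2 : y = 1 ∨ y = 2 := by interval_cases y <;> omega
    · subst hy1
      have h6 : a ∣ 6 := (Nat.dvd_add_right (dvd_mul_left a 6)).mp (by
        rw [show 6 * a + 6 = N by omega]; exact ha)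
      have := Nat.le_of_dvd (by norm_num) h6
      omega
    · subst hy2
      have h4 : a ∣ 4 := (Nat.dvd_add_right (dvd_mul_left a 4)).mp (by
        rw [show 4 * a + 4 = N by omega]; exact ha)
      have := Nat.le_of_dvd (by norm_num) h4
      omega
  · subst hx3
    have h3 : a ∣ 3 := (Nat.dvd_add_right (dvd_mul_left a 3)).mp (by
      rw [show 3 * a + 3 = N by omega]; exact ha)
    have := Nat.le_of_dvd (by norm_num) h3
    omega

/-- The bounds for the orders. -/
theorem card_le_of_classes {Y : Type*} [Group Y] [Finite Y] :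
    (Nat.card (ConjClasses Y) ≤ 2 → Nat.card Y ≤ 2) ∧
      (Nat.card (ConjClasses Y) ≤ 3 → Nat.card Y ≤ 6) ∧
      (Nat.card (ConjClasses Y) ≤ 4 → Nat.card Y ≤ 42) := by
  classical
  haveI : Fintype Y := Fintype.ofFinite Y
  haveI : Fintype (ConjClasses Y) := Fintype.ofFinite _
  set R : Finset (ConjClasses Y) := Finset.univ.erase 1 with hR
  have hcard : R.card + 1 = Nat.card (ConjClasses Y) := by
    rw [hR, Finset.card_erase_add_one (Finset.mem_univ _), Finset.card_univ, Nat.card_eq_fintype_card]
  let s : ConjClasses Y → ℕ := fun c => Nat.card c.carrier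
  have hdvd : ∀ c : ConjClasses Y, s c ∣ Nat.card Y := by
    intro c
    obtain ⟨g, rfl⟩ := ConjClasses.exists_rep c
    show Nat.card (ConjClasses.mk g).carrier ∣ _
    rw [← ConjAct.orbit_eq_carrier_conjClasses, Nat.card_coe_set_eq, ← MulAction.index_stabilizer]
    exact (Subgroup.index_dvd_card _).trans (dvd_of_eq (Nat.card_congr ConjAct.toConjAct.symm.toEquiv))
  have hs1 : s 1 = 1 := by
    rw [ConjClasses.one_eq_mk_one]
    show Nat.card (ConjClasses.mk (1 : Y)).carrier = 1
    rw [Nat.card_eq_one_iff_unique]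
    refine ⟨⟨fun a b => Subtype.ext ?_⟩, ⟨1, ConjClasses.mem_carrier_mk⟩⟩
    have ha := ConjClasses.mem_carrier_iff_mk_eq.mp a.2
    have hb := ConjClasses.mem_carrier_iff_mk_eq.mp b.2
    rw [isConj_one_right.mp (ConjClasses.mk_eq_mk_iff_isConj.mp ha.symm),
      isConj_one_right.mp (ConjClasses.mk_eq_mk_iff_isConj.mp hb.symm)]
  have hsum : 1 + ∑ c ∈ R, s c = Nat.card Y := by
    rw [← hs1, hR, Finset.add_sum_erase _ _ (Finset.mem_univ _),
      ← Nat.card_sigma (β := fun c : ConjClasses Y => c.carrier)]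
    refine Nat.card_congr ⟨fun x => x.2.1, fun y => ⟨ConjClasses.mk y, y, ConjClasses.mem_carrier_mk⟩,
      fun x => ?_, fun _ => rfl⟩
    obtain ⟨c, y, hy⟩ := x
    obtain rfl := ConjClasses.mem_carrier_iff_mk_eq.mp hy
    rfl
  have key : ∀ n, R.card = n → n ≤ 3 →
      Nat.card Y ≤ 42 ∧ (n ≤ 2 → Nat.card Y ≤ 6) ∧ (n ≤ 1 → Nat.card Y ≤ 2) := by
    intro n hn hn3
    interval_cases n
    · rw [Finset.card_eq_zero] at hn
      rw [hn, Finset.sum_empty] at hsum
      omega
    · obtain ⟨a, ha⟩ := Finset.card_eq_one.mp hn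
      rw [ha, Finset.sum_singleton] at hsum
      have h := hdvd a
      rw [← hsum] at h
      have := Nat.le_of_dvd one_pos ((Nat.dvd_add_left dvd_rfl).mp h)
      omega
    · obtain ⟨a, b, hab, h⟩ := Finset.card_eq_two.mp hn
      rw [h, Finset.sum_pair hab] at hsum
      have h1 := hdvd a
      have h2 := hdvd b
      rcases le_total (s a) (s b) with hle | hle
      · have := eq_three hle (by omega) h1 h2; omega
      · have := eq_three hle (by omega) h2 h1; omega
    · obtain ⟨a, b, c, hab, hac, hbc, h⟩ := Finset.card_eq_three.mp hn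
      rw [h, Finset.sum_insert (by simp [hab, hac]), Finset.sum_pair hbc] at hsum
      have h1 := hdvd a
      have h2 := hdvd b
      have h3 := hdvd c
      refine ⟨?_, fun h => absurd h (by omega), fun h => absurd h (by omega)⟩
      rcases le_total (s a) (s b) with e1 | e1 <;> rcases le_total (s b) (s c) with e2 | e2 <;>
        rcases le_total (s a) (s c) with e3 | e3
      all_goals first
        | exact eq_four e1 e2 (by omega) h1 h2 h3
        | exact eq_four e3 e2 (by omega) h1 h3 h2
        | exact eq_four e1 e3 (by omega) h2 h1 h3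
        | exact eq_four e2 e3 (by omega) h2 h3 h1
        | exact eq_four e3 e1 (by omega) h3 h1 h2
        | exact eq_four e2 e1 (by omega) h3 h2 h1
  refine ⟨fun h => ?_, fun h => ?_, fun h => ?_⟩ <;> obtain ⟨h1, h2, h3⟩ := key R.card rfl (by omega) <;>
    first | exact h3 (by omega) | exact h2 (by omega) | exact h1

end Cfsg.Agent.K94
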