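import Cfsg.Agent.Lib.Solvable.Basic
import Cfsg.Agent.Lib.PGroup.Basic
import Cfsg.Agent.FG72.InvariantComplement
import Cfsg.Agent.K94.Field
import Cfsg.Agent.K94.SmallK

/-!
# `60 k(G) ≥ 49 p` for solvable groups of order divisible by `p²`
-/

set_option autoImplicit false
set_option linter.style.haveILetI false

namespace Cfsg.Agent.K94

open Cfsg.Agent.BC85.BaseTwo Cfsg.Agent.BC87.SolvableK
open scoped commutatorElement IsMulCommutative

attribute [local instance] conjAct

/-- The bound for an irreducible module. -/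
theorem module_bound {p n : ℕ} [Fact p.Prime] (hn : 2 ≤ n) {V H : Type} [AddCommGroup V] [Finite V]
    [Group H] [Finite H] [DistribMulAction H V] [FaithfulSMul H V] [Module (ZMod p) V]
    [SMulCommClass H (ZMod p) V] (hirr : Irr H V) (hsol : Group.IsSolvable H)
    (hfr : Module.finrank (ZMod p) V = n) :
    49 * p ≤ 60 * (Nat.card (ConjClasses H) + orbCount H V) := by
  have hp : p.Prime := Fact.out
  rcases Nat.lt_or_ge p 11 with h11 | h11
  · have hr := orbCount_pos (H := H) hirr.1
    have hk : 0 < Nat.card (ConjClasses H) := by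
      haveI : Nonempty (ConjClasses H) := ⟨ConjClasses.mk 1⟩
      exact Nat.card_pos
    have hV : p ^ 2 ≤ Nat.card V := by
      rw [Module.natCard_eq_pow_finrank (K := ZMod p), hfr, Nat.card_zmod]
      exact Nat.pow_le_pow_right hp.pos hn
    have hb := card_sub_one_le (H := H) (V := V)
    obtain ⟨h2, h3, h4⟩ := card_le_of_classes (Y := H)
    generalize orbCount H V = r at *
    generalize Nat.card (ConjClasses H) = k at *
    generalize Nat.card V = v at *
    by_contra hlt
    have h57 : p = 2 ∨ p = 3 ∨ p = 5 ∨ p = 7 := by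
      interval_cases p <;> first | omega | norm_num at hp
    have hp7 : 49 * p ≤ 343 := by omega
    have hk4 : k ≤ 4 := by omega
    have hr5 : r ≤ 4 := by omega
    have hprod : r * Nat.card H ≤ r * 42 ∧ (k ≤ 3 → r * Nat.card H ≤ r * 6) ∧
        (k ≤ 2 → r * Nat.card H ≤ r * 2) :=
      ⟨Nat.mul_le_mul_left r (h4 hk4), fun h => Nat.mul_le_mul_left r (h3 h),
        fun h => Nat.mul_le_mul_left r (h2 h)⟩
    obtain ⟨hA, hB, hC⟩ := hprod
    generalize r * Nat.card H = q at *
    rcases h57 with rfl | rfl | rfl | rfl <;> norm_num at hV <;> omega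
  · exact good_sum hp h11 (good_dim p h11 n hn V H hirr hsol hfr)

variable {G : Type} [Group G] [Finite G] {p : ℕ} [hp : Fact p.Prime]

theorem mul_comm_of_one_dim {M : Subgroup G} [M.Normal] [IsMulCommutative M] (g h : G) (x : G)
    (hx : x ∈ M) {i j : ℕ} (hg : g * x * g⁻¹ = x ^ i) (hh : h * x * h⁻¹ = x ^ j) :
    ⁅g, h⁆ * x = x * ⁅g, h⁆ := by
  have e1 : ∀ (a : G) (k l : ℕ), a * x * a⁻¹ = x ^ k → a * x ^ l * a⁻¹ = x ^ (k * l) :=
    fun a k l ha => by rw [← conj_pow, ha, pow_mul]
  have key : (g * h) * x * (g * h)⁻¹ = (h * g) * x * (h * g)⁻¹ := by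
    calc (g * h) * x * (g * h)⁻¹ = g * (h * x * h⁻¹) * g⁻¹ := by group
      _ = h * (g * x * g⁻¹) * h⁻¹ := by rw [hh, hg, e1 g i j hg, e1 h j i hh, Nat.mul_comm]
      _ = _ := by group
  have hmem : g⁻¹ * x * g ∈ M := by simpa using (inferInstance : M.Normal).conj_mem x hx g⁻¹
  have hfix : ∀ y, (g * h) * y * (g * h)⁻¹ = (h * g) * y * (h * g)⁻¹ →
      ⁅g, h⁆ * ((h * g) * y * (h * g)⁻¹) = ((h * g) * y * (h * g)⁻¹) * ⁅g, h⁆ := fun y hy => by
    calc ⁅g, h⁆ * ((h * g) * y * (h * g)⁻¹)
        = ((g * h) * y * (g * h)⁻¹) * ⁅g, h⁆ := by simp only [commutatorElement_def]; group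
      _ = _ := by rw [hy]
  -- the image of `x` under the conjugation generates the same subgroup
  have hy := hfix x key
  set y := (h * g) * x * (h * g)⁻¹ with hydef
  have hyx : y = x ^ (j * i) := by
    rw [hydef]
    calc h * g * x * (h * g)⁻¹ = h * (g * x * g⁻¹) * h⁻¹ := by group
      _ = _ := by rw [hg, e1 h j i hh]
  have hzle : Subgroup.zpowers y ≤ Subgroup.zpowers x :=
    Subgroup.zpowers_le.mpr (hyx ▸ Subgroup.npow_mem_zpowers x _)
  have heq : Subgroup.zpowers y = Subgroup.zpowers x := by
    refine Subgroup.eq_of_le_of_card_ge hzle (le_of_eq ?_)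
    rw [Nat.card_zpowers, Nat.card_zpowers, hydef]
    exact ((MulAut.conj (h * g)).orderOf_eq x).symm
  obtain ⟨k, hk⟩ := Subgroup.mem_zpowers_iff.mp (heq ▸ Subgroup.mem_zpowers x : x ∈ Subgroup.zpowers y)
  rw [← hk]
  exact (Commute.zpow_right (hy : Commute ⁅g, h⁆ y) k).eq

/-- An invariant complement in an elementary normal abelian subgroup. -/
theorem exists_compl {M V : Subgroup G} [M.Normal] [V.Normal] [IsMulCommutative M] (hVM : V ≤ M)
    (hexp : ∀ x ∈ M, x ^ p = 1) (hp' : ¬ p ∣ M.index) :
    ∃ L : Subgroup G, L.Normal ∧ L ≤ M ∧ L ⊓ V = ⊥ ∧ L ⊔ V = M := by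
  letI : CommGroup M := { (inferInstance : Group M) with mul_comm := IsMulCommutative.is_comm.comm }
  let φ : G →* MulAut M := MulAut.conjNormal
  have hker : M ≤ φ.ker := by
    intro g hg
    rw [MonoidHom.mem_ker]
    refine MulEquiv.ext fun x => Subtype.ext ?_
    show g * (x : G) * g⁻¹ = x
    rw [show g * (x : G) = x * g from
      congrArg Subtype.val (mul_comm (⟨g, hg⟩ : M) x), mul_inv_cancel_right]
  have hX : (Nat.card φ.range).Coprime p := by
    rw [← Subgroup.index_ker]
    exact (hp.out.coprime_iff_not_dvd.mpr fun h => hp' (h.trans (Subgroup.index_dvd_of_le hker))).symm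
  have hW : FG72.IsInv φ.range (V.subgroupOf M) := by
    rintro _ ⟨g, rfl⟩ a ha
    exact (inferInstance : V.Normal).conj_mem _ ha g
  obtain ⟨D, hD, -, -, hinf, hsup⟩ := FG72.exists_invariant_complement φ.range hX (FG72.isInv_bot _)
    hW (FG72.isInv_top _) bot_le le_top fun a _ => Subgroup.mem_bot.mpr (Subtype.ext (hexp _ a.2))
  refine ⟨D.map M.subtype, ⟨?_⟩, Subgroup.map_subtype_le D, ?_, ?_⟩
  · rintro _ ⟨a, ha, rfl⟩ g
    exact ⟨φ g a, hD _ ⟨g, rfl⟩ a ha, rfl⟩
  · rw [eq_bot_iff]
    rintro _ ⟨⟨a, ha, rfl⟩, hv⟩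
    have h : a ∈ (⊥ : Subgroup M) := hinf ▸ ⟨ha, hv⟩
    rw [Subgroup.mem_bot] at h ⊢
    rw [h]
    rfl
  · rw [show V = (V.subgroupOf M).map M.subtype by
      rw [Subgroup.subgroupOf_map_subtype, inf_eq_left.mpr hVM], ← Subgroup.map_sup, hsup,
      ← MonoidHom.range_eq_map, Subgroup.range_subtype]

/-- A normal abelian subgroup of order `p²` with abelian automizer. -/
theorem bound_sq {M : Subgroup G} [M.Normal] [IsMulCommutative M] (hM : Nat.card M = p ^ 2)
    (hab : ∀ g h : G, ⁅g, h⁆ ∈ Subgroup.centralizer (M : Set G)) :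
    49 * p ≤ 60 * Nat.card (ConjClasses G) := by
  set C := Subgroup.centralizer (M : Set G)
  have hMC : M ≤ C := Subgroup.le_centralizer M
  have h1 := card_le_classesIn_mul_index M C fun v hv c hc => (Subgroup.mem_centralizer_iff.mp hc v hv).symm
  have h2 := classesIn_add_le M C hMC
  have h3 : Nat.card (ConjClasses (G ⧸ C)) = C.index := by
    rw [Subgroup.index_eq_card]
    refine (Nat.card_eq_of_bijective (ConjClasses.mk (α := G ⧸ C))
      ⟨fun a b h => ?_, ConjClasses.mk_surjective⟩).symm
    obtain ⟨c, hc⟩ := isConj_iff.mp (ConjClasses.mk_eq_mk_iff_isConj.mp h)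
    obtain ⟨a, rfl⟩ := QuotientGroup.mk'_surjective C a
    obtain ⟨c, rfl⟩ := QuotientGroup.mk'_surjective C c
    have hca : QuotientGroup.mk' C c * QuotientGroup.mk' C a = QuotientGroup.mk' C a * QuotientGroup.mk' C c := by
      rw [← commutatorElement_eq_one_iff_mul_comm, ← map_commutatorElement]
      exact (QuotientGroup.eq_one_iff _).mpr (hab c a)
    rw [hca, mul_inv_cancel_right] at hc
    exact hc
  rw [h3] at h2
  rw [hM] at h1
  have hp2 := hp.out.two_le
  have h5 : 2 * p ≤ classesIn M + C.index := by
    refine Nat.pow_le_pow_iff_left two_ne_zero |>.mp ?_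
    zify at h1 ⊢
    nlinarith [sq_nonneg ((classesIn M : ℤ) - C.index)]
  omega

theorem bound_aux : ∀ (n : ℕ) (G : Type) [Group G] [Finite G], Nat.card G ≤ n → Group.IsSolvable G →
    p ^ 2 ∣ Nat.card G → 49 * p ≤ 60 * Nat.card (ConjClasses G) := by
  intro n
  induction n with
  | zero => intro G _ _ hn; exact absurd hn (Nat.not_le.mpr Nat.card_pos)
  | succ n ih =>
  intro G _ _ hn hsol hdvd
  haveI := hsol
  have hpp := hp.out
  have hquot : ∀ N : Subgroup G, N.Normal → N ≠ ⊥ → p ^ 2 ∣ N.index →
      49 * p ≤ 60 * Nat.card (ConjClasses G) := by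
    intro N hN hN1 hdiv
    haveI := hN
    have hlt : Nat.card (G ⧸ N) ≤ n := by
      rw [← Subgroup.index_eq_card]
      have h2 : 2 ≤ Nat.card N := Subgroup.one_lt_card_iff_ne_bot N |>.mpr hN1
      have h3 := N.card_mul_index
      nlinarith
    exact (ih (G ⧸ N) hlt inferInstance (by rwa [← Subgroup.index_eq_card])).trans
      (Nat.mul_le_mul_left _ (card_conjClasses_quotient_le N))
  haveI : Nontrivial G := Finite.one_lt_card_iff_nontrivial.mp (lt_of_lt_of_le (by
    have := hpp.two_le; nlinarith : 1 < p ^ 2) (Nat.le_of_dvd Nat.card_pos hdvd))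
  obtain ⟨V, q, hVn, hV, hVmin, hq, -, hVab, hVexp, a, ha, hVcard⟩ :=
    Cfsg.Agent.Solvable.exists_minimal_normal_elementary G
  haveI := hVn
  haveI := hVab
  by_cases hidx : p ^ 2 ∣ V.index
  · exact hquot V hVn hV hidx
  have hdvd' : p ^ 2 ∣ Nat.card V * V.index := by rwa [V.card_mul_index]
  have hqp : q = p := by
    by_contra hne
    refine hidx ((Nat.Coprime.pow 2 a ((Nat.coprime_primes hpp hq).mpr (Ne.symm hne))).dvd_of_dvd_mul_left
      (hVcard ▸ hdvd'))
  subst hqp
  set C := Subgroup.centralizer (V : Set G) with hC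
  have hVC : V ≤ C := Subgroup.le_centralizer V
  classical
  rcases hVC.eq_or_lt with hCV | hCV
  · -- self-centralising
    have ha2 : 2 ≤ a := by
      by_contra hlt
      have ha1 : a = 1 := by omega
      rw [ha1, pow_one] at hVcard
      have hpi : q ∣ V.index := by
        rw [hVcard, pow_two] at hdvd'
        exact Nat.dvd_of_mul_dvd_mul_left hpp.pos hdvd'
      obtain ⟨x, hx⟩ := exists_prime_orderOf_dvd_card' (G := G ⧸ V) q (Subgroup.index_eq_card V ▸ hpi)
      obtain ⟨g, rfl⟩ := QuotientGroup.mk'_surjective V x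
      obtain ⟨P⟩ : Nonempty (Sylow q G) := inferInstance
      have hVp : IsPGroup q V := IsPGroup.of_card (n := 1) (by rw [hVcard, pow_one])
      have hVP : V ≤ P := hVp.le_sylow_of_normal P
      have hne : V.subgroupOf (P : Subgroup G) ⊓ Subgroup.center P ≠ ⊥ :=
        PGroup.inf_center_ne_bot P.isPGroup' fun e => hV (by
          rw [Subgroup.subgroupOf_eq_bot, disjoint_iff, inf_eq_left.2 hVP] at e
          exact e)
      obtain ⟨⟨z, hz⟩, hz1⟩ := Subgroup.ne_bot_iff_exists_ne_one.mp hne
      have hzV : Subgroup.zpowers ((z : P) : G) = V := by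
        refine Subgroup.eq_of_le_of_card_ge (Subgroup.zpowers_le.mpr hz.1) ?_
        rw [hVcard, Nat.card_zpowers]
        have h1 : orderOf ((z : P) : G) ∣ q := orderOf_dvd_of_pow_eq_one (hVexp _ hz.1)
        rcases (Nat.dvd_prime hpp).mp h1 with h | h
        · exact absurd (Subtype.ext (Subtype.ext (orderOf_eq_one_iff.mp h))) hz1
        · rw [h]
      have hPC : (P : Subgroup G) ≤ C := by
        intro y hy
        refine Subgroup.mem_centralizer_iff.mpr fun v hv => ?_
        obtain ⟨i, rfl⟩ := Subgroup.mem_zpowers_iff.mp (hzV.symm ▸ hv : v ∈ Subgroup.zpowers ((z : P) : G))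
        have hc : Commute ((z : P) : G) y :=
          congrArg Subtype.val ((Subgroup.mem_center_iff.mp hz.2 ⟨y, hy⟩).symm)
        exact (hc.zpow_left i).eq
      have h2 : q ^ 2 ∣ Nat.card V := by
        refine dvd_trans ?_ (Subgroup.card_dvd_of_le (hPC.trans hCV.ge))
        exact P.pow_dvd_card_of_pow_dvd_card hdvd
      rw [hVcard] at h2
      have := Nat.le_of_dvd hpp.pos h2
      have := hpp.two_le
      nlinarith
    have hexp : ∀ x : Additive V, q • x = 0 := fun x => by
      apply Additive.toMul.injective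
      apply Subtype.ext
      rw [toMul_nsmul, Subgroup.coe_pow]
      exact hVexp _ (Additive.toMul x).2
    letI : Module (ZMod q) (Additive V) := AddCommGroup.zmodModule hexp
    haveI : SMulCommClass (G ⧸ Subgroup.centralizer (V : Set G)) (ZMod q) (Additive V) :=
      ⟨fun g c x => ZMod.map_smul (DistribMulAction.toAddMonoidHom (Additive V) g) c x⟩
    haveI := conjAct_faithful V
    have hfr : Module.finrank (ZMod q) (Additive V) = a := by
      have h : Nat.card (Additive V) = Nat.card (ZMod q) ^ Module.finrank (ZMod q) (Additive V) :=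
        @Module.natCard_eq_pow_finrank (ZMod q) (Additive V) _ _ _ Module.Finite.of_finite
      rw [Nat.card_zmod, show Nat.card (Additive V) = q ^ a from
        (Nat.card_congr Additive.toMul).trans hVcard] at h
      exact (Nat.pow_right_injective hpp.two_le h).symm
    have h := module_bound (p := q) ha2 (conjAct_irr V hV hVmin) inferInstance hfr
    have h1 := classesIn_add_le V C hVC
    have h2 := orbCount_add_one_le_classesIn V
    change classesIn V + Nat.card (ConjClasses (G ⧸ Subgroup.centralizer (V : Set G))) ≤ _ at h1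
    omega
  · -- a bigger centraliser
    haveI : C.Normal := inferInstance
    obtain ⟨Z, hZn, hZ1, hZC, hZmin⟩ := Cfsg.Agent.Solvable.exists_minimal_normal_le
      (C.map (QuotientGroup.mk' V)) (fun h => by
        rw [Subgroup.map_eq_bot_iff, QuotientGroup.ker_mk'] at h
        exact hCV.ne (le_antisymm hVC h))
    obtain ⟨l, hl, hZp, hZab, -, b, hb, hZcard⟩ :=
      Cfsg.Agent.Solvable.exists_prime_of_minimal_normal Z hZ1 hZmin
    haveI := hZn
    set M := Z.comap (QuotientGroup.mk' V) with hMdef
    haveI hMn : M.Normal := hZn.comap _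
    have hVM : V ≤ M := fun v hv => by
      show QuotientGroup.mk' V v ∈ Z
      rw [show QuotientGroup.mk' V v = 1 from (QuotientGroup.eq_one_iff v).mpr hv]
      exact one_mem Z
    have hMC : M ≤ C := by
      intro m hm
      obtain ⟨c, hc, hcm⟩ := Subgroup.mem_map.mp (hZC hm)
      have h := C.mul_mem hc (hVC (QuotientGroup.eq.mp hcm))
      rwa [mul_inv_cancel_left] at h
    have hMindex : M.index * l ^ b = V.index := by
      rw [hMdef, Subgroup.index_comap_of_surjective _ (QuotientGroup.mk'_surjective V), ← hZcard,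
        Subgroup.index_mul_card, Subgroup.index_eq_card]
    have hMcard : Nat.card M = q ^ a * l ^ b := by
      have h1 := M.card_mul_index
      rw [← V.card_mul_index, hVcard, ← hMindex] at h1
      have h0 : 0 < M.index := Nat.pos_of_ne_zero Subgroup.index_ne_zero_of_finite
      refine Nat.eq_of_mul_eq_mul_right h0 ?_
      rw [h1]; ring
    have hMcen : ∀ v ∈ V, ∀ m ∈ M, m * v = v * m := fun v hv m hm =>
      (Subgroup.mem_centralizer_iff.mp (hMC hm) v hv).symm
    let π : M →* Z := ((QuotientGroup.mk' V).comp M.subtype).codRestrict Z fun x => x.2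
    have hπker : π.ker ≤ Subgroup.center M := by
      intro x hx
      have hxV : (x : G) ∈ V := by
        rw [← QuotientGroup.eq_one_iff]
        exact congrArg Subtype.val (MonoidHom.mem_ker.mp hx)
      exact Subgroup.mem_center_iff.mpr fun y => Subtype.ext (hMcen _ hxV _ y.2)
    haveI : Fact l.Prime := ⟨hl⟩
    by_cases hlq : l = q
    · subst hlq
      have hb1 : b = 1 := by
        by_contra hb1
        refine hidx ((pow_dvd_pow l (show 2 ≤ b by omega)).trans ?_)
        rw [← hMindex]
        exact dvd_mul_left _ _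
      subst hb1
      rw [pow_one] at hZcard hMindex
      have hMl : ¬ l ∣ M.index := fun h => hidx (by
        rw [← hMindex, pow_two]
        exact Nat.mul_dvd_mul_right h l)
      haveI : Fact (Nat.card Z).Prime := ⟨hZcard.symm ▸ hl⟩
      haveI : IsCyclic Z := isCyclic_of_prime_card rfl
      haveI hMab : IsMulCommutative M :=
        ⟨⟨commutative_of_cyclic_center_quotient π hπker⟩⟩
      by_cases hexpM : ∀ x ∈ M, x ^ l = 1
      · obtain ⟨L, hLn, hLM, hLV, hsup⟩ := exists_compl (p := l) hVM hexpM hMl
        haveI := hLn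
        have hL0 : L ≠ ⊥ := by
          rintro rfl
          rw [bot_sup_eq] at hsup
          rw [← hsup, hVcard, pow_one] at hMcard
          have := hpp.two_le
          have : 0 < l ^ a := pow_pos hpp.pos a
          nlinarith
        have hLcard : Nat.card L ≤ l := by
          rw [← hZcard]
          refine Nat.card_le_card_of_injective
            (fun x : L => (⟨QuotientGroup.mk' V (x : G), hLM x.2⟩ : Z)) fun x y h => ?_
          have h' : (x : G)⁻¹ * y ∈ V := QuotientGroup.eq.mp (congrArg Subtype.val h)
          have : (x : G)⁻¹ * y ∈ L ⊓ V := ⟨L.mul_mem (L.inv_mem x.2) y.2, h'⟩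
          rw [hLV, Subgroup.mem_bot, inv_mul_eq_one] at this
          exact Subtype.ext this
        have hLl : Nat.card L = l := by
          have h1 := Subgroup.card_dvd_of_le hLM
          rw [hMcard, pow_one, ← pow_succ] at h1
          obtain ⟨i, -, hi⟩ := (Nat.dvd_prime_pow hpp).mp h1
          rcases i with _ | _ | i
          · exact absurd (Subgroup.card_eq_one.mp (by rw [hi, pow_zero])) hL0
          · rw [hi, zero_add, pow_one]
          · have : l ^ 2 ≤ l ^ (i + 1 + 1) := Nat.pow_le_pow_right hpp.pos (by omega)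
            have := hpp.two_le
            nlinarith
        rcases Nat.lt_or_ge a 2 with ha1 | ha2
        · obtain rfl : a = 1 := by omega
          rw [pow_one] at hVcard
          refine bound_sq (M := M) (p := l) (by rw [hMcard]; ring) fun g h => ?_
          refine Subgroup.mem_centralizer_iff.mpr fun m hm => ?_
          have hline : ∀ (D : Subgroup G) [D.Normal], D ≤ M → Nat.card D = l → ∀ x ∈ D,
              ⁅g, h⁆ * x = x * ⁅g, h⁆ := by
            intro D _ hDM hD x hx
            by_cases hx1 : x = 1
            · rw [hx1, mul_one, one_mul]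
            have hgen : ∀ y ∈ D, ∃ i : ℕ, y = x ^ i := by
              intro y hy
              haveI : Fact (Nat.card D).Prime := ⟨hD.symm ▸ hl⟩
              have hz : (⟨y, hy⟩ : D) ∈ Subgroup.zpowers (⟨x, hx⟩ : D) := by
                rw [zpowers_eq_top_of_prime_card rfl fun e => hx1 (congrArg Subtype.val e)]
                exact Subgroup.mem_top _
              obtain ⟨i, hi⟩ := (mem_zpowers_iff_mem_range_orderOf.mp hz |> Finset.mem_image.mp)
              exact ⟨i, (congrArg Subtype.val hi.2).symm⟩
            obtain ⟨i, hi⟩ := hgen _ (Subgroup.Normal.conj_mem inferInstance x hx g)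
            obtain ⟨j, hj⟩ := hgen _ (Subgroup.Normal.conj_mem inferInstance x hx h)
            exact mul_comm_of_one_dim (M := M) g h x (hDM hx) hi hj
          have hle : L ⊔ V ≤ Subgroup.centralizer ({⁅g, h⁆} : Set G) := sup_le
            (fun x hx => Subgroup.mem_centralizer_singleton_iff.mpr (hline L hLM hLl x hx).symm)
            (fun x hx => Subgroup.mem_centralizer_singleton_iff.mpr (hline V hVM hVcard x hx).symm)
          exact Subgroup.mem_centralizer_singleton_iff.mp (hle (hsup.symm ▸ hm))
        · refine hquot L hLn hL0 ?_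
          have h := L.card_mul_index
          rw [hLl] at h
          have h' : l ^ 3 ∣ Nat.card G := by
            rw [← M.card_mul_index, hMcard, pow_one, ← pow_succ]
            exact (pow_dvd_pow l (by omega)).mul_right _
          rw [← h, pow_succ' l 2] at h'
          exact Nat.dvd_of_mul_dvd_mul_left hpp.pos h'
      · push Not at hexpM
        obtain ⟨x, hxM, hx⟩ := hexpM
        letI : CommGroup M := { (inferInstance : Group M) with mul_comm := IsMulCommutative.is_comm.comm }
        let f : M →* M := powMonoidHom l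
        have hfV : (V.subgroupOf M) ≤ f.ker := fun v hv => Subtype.ext (hVexp _ hv)
        have hrange : Nat.card f.range ≤ l := by
          rw [← Subgroup.index_ker]
          refine Nat.le_of_dvd hpp.pos ((Subgroup.index_dvd_of_le hfV).trans (dvd_of_eq ?_))
          rw [show (V.subgroupOf M).index = V.relIndex M from rfl]
          have h1 := Subgroup.relIndex_mul_index hVM
          have h0 : 0 < M.index := Nat.pos_of_ne_zero Subgroup.index_ne_zero_of_finite
          rw [← hMindex, mul_comm M.index] at h1
          exact Nat.eq_of_mul_eq_mul_right h0 h1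
        have hfx : f ⟨x, hxM⟩ ≠ 1 := fun h => hx (congrArg Subtype.val h)
        rcases Nat.lt_or_ge a 2 with ha1 | ha2
        · obtain rfl : a = 1 := by omega
          refine bound_sq (M := M) (p := l) (by rw [hMcard]; ring) fun g h => ?_
          refine Subgroup.mem_centralizer_iff.mpr fun m hm => ?_
          have htop : Subgroup.zpowers (⟨x, hxM⟩ : M) = ⊤ := by
            refine Subgroup.eq_top_of_card_eq _ ?_
            rw [Nat.card_zpowers, hMcard, pow_one, ← pow_two]
            refine orderOf_eq_prime_pow (n := 1) (fun h => hfx (by rwa [pow_one] at h)) ?_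
            have h := pow_card_eq_one' (x := (⟨x, hxM⟩ : M))
            rwa [hMcard, pow_one, ← pow_two] at h
          have hgen : ∀ y ∈ M, ∃ i : ℕ, y = x ^ i := fun y hy => by
            obtain ⟨i, hi⟩ := mem_zpowers_iff_mem_range_orderOf.mp
              (htop ▸ Subgroup.mem_top (⟨y, hy⟩ : M) : (⟨y, hy⟩ : M) ∈ Subgroup.zpowers ⟨x, hxM⟩) |>
                Finset.mem_image.mp
            exact ⟨i, (congrArg Subtype.val hi.2).symm⟩
          obtain ⟨i, hi⟩ := hgen _ (Subgroup.Normal.conj_mem inferInstance x hxM g)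
          obtain ⟨j, hj⟩ := hgen _ (Subgroup.Normal.conj_mem inferInstance x hxM h)
          obtain ⟨k, rfl⟩ := hgen m hm
          exact ((Commute.pow_left (mul_comm_of_one_dim (M := M) g h x hxM hi hj).symm k)).eq
        · exfalso
          let W : Subgroup G := f.range.map M.subtype
          have hWn : W.Normal := by
            refine ⟨?_⟩
            rintro _ ⟨_, ⟨y, rfl⟩, rfl⟩ g
            exact ⟨f (MulAut.conjNormal g y), MonoidHom.mem_range.mpr ⟨_, rfl⟩, by
              show ((MulAut.conjNormal g y : M) : G) ^ l = g * (y : G) ^ l * g⁻¹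
              rw [MulAut.conjNormal_apply, conj_pow]⟩
          have hWV : W ≤ V := by
            rintro _ ⟨_, ⟨y, rfl⟩, rfl⟩
            show (y : G) ^ l ∈ V
            rw [← QuotientGroup.eq_one_iff]
            have h := pow_card_eq_one' (x := (⟨QuotientGroup.mk' V (y : G), y.2⟩ : Z))
            rw [hZcard] at h
            exact congrArg Subtype.val h
          have hWcard : Nat.card W ≤ l := by
            rw [Subgroup.card_subtype]
            exact hrange
          rcases hVmin W hWn hWV with h | h
          · refine hfx (Subtype.ext ?_)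
            have : ((f ⟨x, hxM⟩ : M) : G) ∈ W := Subgroup.mem_map_of_mem _ (MonoidHom.mem_range.mpr ⟨_, rfl⟩)
            rw [h, Subgroup.mem_bot] at this
            exact this
          · rw [h, hVcard] at hWcard
            have h2 : l ^ 2 ≤ l ^ a := Nat.pow_le_pow_right hpp.pos ha2
            have := hpp.two_le
            nlinarith
    · -- another prime
      haveI : Group.IsNilpotent Z := hZp.isNilpotent
      haveI : Group.IsNilpotent M := Subgroup.isNilpotent_of_ker_le_center π hπker
      haveI : Fact l.Prime := ⟨hl⟩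
      obtain ⟨Q⟩ : Nonempty (Sylow l M) := inferInstance
      have hQn : (Q : Subgroup M).Normal := inferInstance
      haveI := Sylow.characteristic_of_normal Q hQn
      let W : Subgroup G := (Q : Subgroup M).map M.subtype
      have hW0 : W ≠ ⊥ := fun h => by
        rw [Subgroup.map_eq_bot_iff_of_injective _ M.subtype_injective] at h
        have h3 := Q.dvd_card_of_dvd_card (show l ∣ Nat.card M by
          rw [hMcard]; exact (dvd_pow_self l hb.ne').mul_left _)
        rw [h, Subgroup.card_bot] at h3
        exact hl.not_dvd_one h3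
      obtain ⟨j, hj⟩ := IsPGroup.iff_card.mp (Q.isPGroup'.map M.subtype)
      refine hquot W inferInstance hW0 ?_
      refine (Nat.Coprime.pow 2 j ((Nat.coprime_primes hpp hl).mpr (Ne.symm hlq))).dvd_of_dvd_mul_left ?_
      rw [← hj, W.card_mul_index]
      exact hdvd

end Cfsg.Agent.K94
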