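import Cfsg.Agent.BC87.SolvableK.Section

/-!
# The section over the scalars: pairing, detection, complete reducibility
-/

set_option autoImplicit false
set_option linter.style.haveILetI false

namespace Cfsg.Agent.K94

open Cfsg.Agent.BC85 Cfsg.Agent.BC85.BaseTwo
open scoped commutatorElement

variable {H : Type} [Group H] [Finite H] (U : Subgroup H) [U.Normal] (N : Subgroup H)

/-- The commutator of representatives. -/
noncomputable def omega (x y : N.map (QuotientGroup.mk' U)) : H :=
  ⁅(x : H ⧸ U).out, (y : H ⧸ U).out⁆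

variable {U} {N}

theorem out_mem (hN : IsSec U N) (x : N.map (QuotientGroup.mk' U)) : (x : H ⧸ U).out ∈ N := by
  obtain ⟨n, hn, hnx⟩ := Subgroup.mem_map.mp x.2
  have h1 : n⁻¹ * (x : H ⧸ U).out ∈ U := QuotientGroup.eq.mp (hnx.trans (x : H ⧸ U).out_eq.symm)
  have h2 := N.mul_mem hn (hN.le h1)
  rwa [mul_inv_cancel_left] at h2

theorem mk_out (x : N.map (QuotientGroup.mk' U)) :
    QuotientGroup.mk' U (x : H ⧸ U).out = x := (x : H ⧸ U).out_eq

theorem comm_scalar (hN : IsSec U N) {a u : H} (ha : a ∈ N) (hu : u ∈ U) : Commute a u :=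
  (Subgroup.mem_centralizer_iff.mp (hN.cen ha) u hu).symm

theorem omega_mk (hN : IsSec U N) {a b : H} (ha : a ∈ N) (hb : b ∈ N)
    (x y : N.map (QuotientGroup.mk' U)) (hx : (x : H ⧸ U) = QuotientGroup.mk' U a)
    (hy : (y : H ⧸ U) = QuotientGroup.mk' U b) : omega U N x y = ⁅a, b⁆ := by
  have ha' : a⁻¹ * (x : H ⧸ U).out ∈ U := QuotientGroup.eq.mp (hx.symm.trans (mk_out x).symm)
  have hb' : b⁻¹ * (y : H ⧸ U).out ∈ U := QuotientGroup.eq.mp (hy.symm.trans (mk_out y).symm)
  unfold omega
  rw [← mul_inv_cancel_left a (x : H ⧸ U).out, ← mul_inv_cancel_left b (y : H ⧸ U).out]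
  generalize a⁻¹ * (x : H ⧸ U).out = u at ha'
  generalize b⁻¹ * (y : H ⧸ U).out = v at hb'
  have c1 : Commute u (b * v) := (comm_scalar hN (N.mul_mem hb (hN.le hb')) ha').symm
  have c2 : Commute a v := comm_scalar hN ha hb'
  rw [commutatorElement_def, commutatorElement_def, mul_assoc a u (b * v), c1.eq]
  calc a * (b * v * u) * (a * u)⁻¹ * (b * v)⁻¹ = a * b * (v * a⁻¹ * v⁻¹) * b⁻¹ := by group
    _ = _ := by rw [c2.inv_left.symm.eq, mul_inv_cancel_right]

theorem omega_mem (hN : IsSec U N) (x y : N.map (QuotientGroup.mk' U)) : omega U N x y ∈ U :=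
  hN.comm _ (out_mem hN x) _ (out_mem hN y)

theorem omega_mul_right (hN : IsSec U N) (x y y' : N.map (QuotientGroup.mk' U)) :
    omega U N x (y * y') = omega U N x y * omega U N x y' := by
  rw [omega_mk hN (out_mem hN x) (N.mul_mem (out_mem hN y) (out_mem hN y')) x (y * y')
    (mk_out x).symm (by rw [map_mul, mk_out, mk_out]; rfl)]
  have h := omega_mem hN x y'
  have hc := comm_scalar hN (out_mem hN y) h
  unfold omega at h hc ⊢
  generalize (x : H ⧸ U).out = a at h hc ⊢
  generalize (y : H ⧸ U).out = b at h hc ⊢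
  generalize (y' : H ⧸ U).out = c at h hc ⊢
  calc ⁅a, b * c⁆ = ⁅a, b⁆ * (b * ⁅a, c⁆ * b⁻¹) := by simp only [commutatorElement_def]; group
    _ = _ := by rw [hc.eq, mul_inv_cancel_right]

theorem omega_swap (x y : N.map (QuotientGroup.mk' U)) : omega U N y x = (omega U N x y)⁻¹ :=
  (commutatorElement_inv _ _).symm

theorem omega_nondeg (hN : IsSec U N) {x : N.map (QuotientGroup.mk' U)} (hx : x ≠ 1) :
    ∃ y, omega U N x y ≠ 1 := by
  by_contra hno
  push Not at hno
  apply hx
  have h : (x : H ⧸ U).out ∈ U := hN.centre _ (hN.cen (out_mem hN x)) fun n hn => by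
    have h1 := hno ⟨_, Subgroup.mem_map_of_mem (QuotientGroup.mk' U) hn⟩
    rw [omega_mk hN (out_mem hN x) hn x _ (mk_out x).symm rfl] at h1
    exact commutatorElement_eq_one_iff_mul_comm.mp h1
  apply Subtype.ext
  rw [← mk_out x]
  exact (QuotientGroup.eq_one_iff _).mpr h

/-- The fibres of the pairing are small. -/
theorem card_fibre (hN : IsSec U N) {x : N.map (QuotientGroup.mk' U)} (hx : x ≠ 1) (c : H) :
    ∃ i : ℕ, 2 ≤ i ∧ i ∣ Nat.card (N.map (QuotientGroup.mk' U)) ∧
      Nat.card {y // omega U N x y = c} * i ≤ Nat.card (N.map (QuotientGroup.mk' U)) := by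
  classical
  let φ : N.map (QuotientGroup.mk' U) →* H :=
    MonoidHom.mk' (omega U N x) (omega_mul_right hN x)
  refine ⟨φ.ker.index, ?_, Subgroup.index_dvd_card _, ?_⟩
  · obtain ⟨y, hy⟩ := omega_nondeg hN hx
    refine Subgroup.one_lt_index_of_ne_top fun h => hy ?_
    exact MonoidHom.mem_ker.mp (h ▸ Subgroup.mem_top y : y ∈ φ.ker)
  · refine le_trans (Nat.mul_le_mul_right _ ?_) φ.ker.card_mul_index.le
    rcases isEmpty_or_nonempty {y // omega U N x y = c} with h | ⟨⟨y0, hy0⟩⟩
    · simp
    refine Nat.card_le_card_of_injective (fun y => (⟨y0⁻¹ * y.1, ?_⟩ : φ.ker)) fun a b h =>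
      Subtype.ext (mul_left_cancel (congrArg Subtype.val h))
    rw [MonoidHom.mem_ker, map_mul, map_inv]
    show (omega U N x y0)⁻¹ * omega U N x y.1 = 1
    rw [hy0, y.2, inv_mul_cancel]

/-- Conjugation on the section. -/
noncomputable def secMap (hN : IsSec U N) (g : H) :
    N.map (QuotientGroup.mk' U) →* N.map (QuotientGroup.mk' U) :=
  MonoidHom.mk' (fun x => ⟨QuotientGroup.mk' U g * x * (QuotientGroup.mk' U g)⁻¹, by
    obtain ⟨n, hn, hnx⟩ := Subgroup.mem_map.mp x.2
    exact Subgroup.mem_map.mpr ⟨g * n * g⁻¹, hN.normal.conj_mem n hn g,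
      by rw [map_mul, map_mul, map_inv, hnx]⟩⟩)
    fun x y => Subtype.ext (by
      show _ * (((x : H ⧸ U)) * y) * _ = (_ * (x : H ⧸ U) * _) * (_ * (y : H ⧸ U) * _)
      group)

theorem secMap_coe (hN : IsSec U N) (g : H) (x : N.map (QuotientGroup.mk' U)) :
    (secMap hN g x : H ⧸ U) = QuotientGroup.mk' U g * x * (QuotientGroup.mk' U g)⁻¹ := rfl

theorem secMap_mul (hN : IsSec U N) (g h : H) (x : N.map (QuotientGroup.mk' U)) :
    secMap hN (g * h) x = secMap hN g (secMap hN h x) := by
  apply Subtype.ext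
  simp only [secMap_coe, map_mul]
  group

theorem secMap_one (hN : IsSec U N) (x : N.map (QuotientGroup.mk' U)) : secMap hN 1 x = x := by
  apply Subtype.ext
  rw [secMap_coe, map_one, one_mul, inv_one, mul_one]

theorem omega_secMap (hN : IsSec U N) {g : H} (hg : g ∈ Subgroup.centralizer (U : Set H))
    (x y : N.map (QuotientGroup.mk' U)) :
    omega U N (secMap hN g x) (secMap hN g y) = omega U N x y := by
  rw [omega_mk hN (hN.normal.conj_mem _ (out_mem hN x) g) (hN.normal.conj_mem _ (out_mem hN y) g)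
    _ _ (by rw [secMap_coe, map_mul, map_mul, map_inv, mk_out])
    (by rw [secMap_coe, map_mul, map_mul, map_inv, mk_out])]
  show ⁅g * _ * g⁻¹, g * _ * g⁻¹⁆ = _
  rw [← show g * omega U N x y * g⁻¹ = omega U N x y by
    rw [← Subgroup.mem_centralizer_iff.mp hg _ (omega_mem hN x y), mul_inv_cancel_right]]
  unfold omega
  simp only [commutatorElement_def]
  group

theorem secMap_ne_one (hN : IsSec U N) (g : H) {x : N.map (QuotientGroup.mk' U)} (hx : x ≠ 1) :
    secMap hN g x ≠ 1 := fun h => hx (by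
  rw [← secMap_one hN x, ← inv_mul_cancel g, secMap_mul, h, map_one])

theorem mem_of_secMap_id (hN : IsSec U N) {g : H} (hg : g ∈ Subgroup.centralizer (U : Set H))
    (h : ∀ x, secMap hN g x = x) : g ∈ N := by
  refine hN.faithful g hg fun y hy => ?_
  have h1 := congrArg Subtype.val (h ⟨_, Subgroup.mem_map_of_mem (QuotientGroup.mk' U) hy⟩)
  rw [secMap_coe] at h1
  rw [← QuotientGroup.eq_one_iff (N := U)]
  show QuotientGroup.mk' U ⁅g, y⁆ = 1
  rw [map_commutatorElement, commutatorElement_eq_one_iff_mul_comm]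
  exact mul_inv_eq_iff_eq_mul.mp h1

/-- A function separating the cosets bounds the index. -/
theorem relIndex_le_card (hN : IsSec U N) {T : Type*} [Finite T]
    (f : Subgroup.centralizer (U : Set H) → T)
    (hf : ∀ a b, f a = f b → ((a : H)⁻¹ * b) ∈ N) :
    N.relIndex (Subgroup.centralizer (U : Set H)) ≤ Nat.card T := by
  rw [Subgroup.relIndex, Subgroup.index_eq_card]
  refine Nat.card_le_card_of_injective (fun q => f q.out) fun q q' h => ?_
  rw [← q.out_eq', ← q'.out_eq', QuotientGroup.eq, Subgroup.mem_subgroupOf]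
  exact hf _ _ h

theorem detect_of_closure (hN : IsSec U N) {S : Set (N.map (QuotientGroup.mk' U))}
    (hS : Subgroup.closure S = ⊤) {g : H} (hg : g ∈ Subgroup.centralizer (U : Set H))
    (h : ∀ x ∈ S, secMap hN g x = x) : g ∈ N := by
  refine mem_of_secMap_id hN hg fun x => ?_
  have : (⊤ : Subgroup (N.map (QuotientGroup.mk' U))) ≤
      (secMap hN g).eqLocus (MonoidHom.id _) := by
    rw [← hS, Subgroup.closure_le]
    exact h
  exact this (Subgroup.mem_top x)

theorem inv_mul_fix (hN : IsSec U N) {a b : H} {x : N.map (QuotientGroup.mk' U)}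
    (h : secMap hN a x = secMap hN b x) : secMap hN (a⁻¹ * b) x = x := by
  rw [secMap_mul, ← h, ← secMap_mul, inv_mul_cancel, secMap_one]

/-- Two generators, the images keep the value of the pairing. -/
theorem relIndex_le_pair (hN : IsSec U N) {x y : N.map (QuotientGroup.mk' U)} (hx : x ≠ 1)
    (hxy : Subgroup.closure ({x, y} : Set (N.map (QuotientGroup.mk' U))) = ⊤) {i : ℕ}
    (hi : ∀ a : N.map (QuotientGroup.mk' U), a ≠ 1 →
      Nat.card {b // omega U N a b = omega U N x y} ≤ i) :
    N.relIndex (Subgroup.centralizer (U : Set H)) ≤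
      (Nat.card (N.map (QuotientGroup.mk' U)) - 1) * i := by
  classical
  haveI : Fintype (N.map (QuotientGroup.mk' U)) := Fintype.ofFinite _
  let f : Subgroup.centralizer (U : Set H) →
      Σ a : {a : N.map (QuotientGroup.mk' U) // a ≠ 1}, {b // omega U N a.1 b = omega U N x y} :=
    fun g => ⟨⟨secMap hN g x, secMap_ne_one hN g hx⟩, ⟨secMap hN g y, omega_secMap hN g.2 x y⟩⟩
  refine (relIndex_le_card hN f fun a b h => ?_).trans ?_
  · have h1 : secMap hN a x = secMap hN b x := congrArg (fun s => s.1.1) h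
    have h2 : secMap hN a y = secMap hN b y := congrArg (fun s => s.2.1) h
    refine detect_of_closure hN hxy ((Subgroup.centralizer _).mul_mem
      ((Subgroup.centralizer _).inv_mem a.2) b.2) fun z hz => ?_
    rcases hz with rfl | rfl
    · exact inv_mul_fix hN h1
    · exact inv_mul_fix hN h2
  · rw [Nat.card_sigma]
    refine (Finset.sum_le_card_nsmul _ _ i fun a _ => hi a.1 a.2).trans ?_
    rw [smul_eq_mul, Finset.card_univ, Fintype.card_subtype_compl, Fintype.card_subtype_eq,
      Nat.card_eq_fintype_card]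

theorem card_section : Nat.card (N.map (QuotientGroup.mk' U)) = U.relIndex N := by
  rw [← Subgroup.relIndex_ker, QuotientGroup.ker_mk']

/-- Two elements generate a section of order the square of a prime. -/
theorem exists_two_gen {e : ℕ} (he : e.Prime) {A : Type*} [Group A] [Finite A]
    (hcard : Nat.card A = e ^ 2) :
    ∃ x y : A, x ≠ 1 ∧ Subgroup.closure ({x, y} : Set A) = ⊤ := by
  haveI : Nontrivial A := Finite.one_lt_card_iff_nontrivial.mp (by
    rw [hcard]; exact Nat.one_lt_pow two_ne_zero he.one_lt)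
  obtain ⟨x, hx⟩ := exists_ne (1 : A)
  have hxc : x ∈ Subgroup.closure ({x} : Set A) := Subgroup.subset_closure rfl
  have big : ∀ B : Subgroup A, x ∈ B → Nat.card B ≠ e → B = ⊤ := by
    intro B hxB hne
    obtain ⟨i, hi, hBi⟩ := (Nat.dvd_prime_pow he).mp (hcard ▸ B.card_subgroup_dvd_card)
    have h0 : i ≠ 0 := by
      rintro rfl
      rw [pow_zero, Subgroup.card_eq_one] at hBi
      exact hx (Subgroup.mem_bot.mp (hBi ▸ hxB))
    have h1 : i ≠ 1 := by rintro rfl; exact hne (by rw [hBi, pow_one])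
    exact Subgroup.eq_top_of_card_eq _ (by rw [hBi, hcard, show i = 2 by omega])
  by_cases h : Nat.card (Subgroup.closure ({x} : Set A)) = e
  · obtain ⟨y, hy⟩ : ∃ y, y ∉ Subgroup.closure ({x} : Set A) := by
      by_contra hno
      push Not at hno
      rw [(Subgroup.closure ({x} : Set A)).eq_top_iff'.mpr hno, Subgroup.card_top, hcard] at h
      have := he.two_le
      nlinarith
    refine ⟨x, y, hx, big _ (Subgroup.subset_closure (Set.mem_insert _ _)) fun hc => ?_⟩
    have hle : Subgroup.closure ({x} : Set A) ≤ Subgroup.closure ({x, y} : Set A) :=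
      Subgroup.closure_mono (Set.singleton_subset_iff.mpr (Set.mem_insert _ _))
    exact hy (Subgroup.eq_of_le_of_card_ge hle (by rw [hc, h]) ▸
      Subgroup.subset_closure (Set.mem_insert_of_mem x rfl))
  · exact ⟨x, x, hx, by rw [Set.pair_eq_singleton]; exact big _ hxc h⟩

/-- `[C : N] ≤ e (e² − 1)` for a section of order the square of a prime. -/
theorem relIndex_le_prime (hN : IsSec U N) {e : ℕ} (he : e.Prime) (hidx : U.relIndex N = e ^ 2) :
    N.relIndex (Subgroup.centralizer (U : Set H)) ≤ (e ^ 2 - 1) * e := by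
  have hcard : Nat.card (N.map (QuotientGroup.mk' U)) = e ^ 2 := card_section.trans hidx
  obtain ⟨x, y, hx, hxy⟩ := exists_two_gen he hcard
  refine (relIndex_le_pair hN hx hxy (i := e) fun a ha => ?_).trans (by rw [hcard])
  obtain ⟨i, hi2, hdvd, hle⟩ := card_fibre hN ha (omega U N x y)
  rw [hcard] at hdvd hle
  obtain ⟨j, hj, rfl⟩ := (Nat.dvd_prime_pow he).mp hdvd
  have : e ≤ e ^ j := Nat.le_self_pow (by rintro rfl; simp at hi2) e
  refine Nat.le_of_mul_le_mul_right ?_ he.pos
  calc _ ≤ Nat.card {b // omega U N a b = omega U N x y} * e ^ j := Nat.mul_le_mul_left _ this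
    _ ≤ e ^ 2 := hle
    _ = e * e := pow_two e

/-- Thirty-six: two generators. -/
theorem relIndex_le_thirty_six (hN : IsSec U N) (hidx : U.relIndex N = 36) :
    N.relIndex (Subgroup.centralizer (U : Set H)) ≤ 36 ^ 2 := by
  classical
  have hcard : Nat.card (N.map (QuotientGroup.mk' U)) = 36 := card_section.trans hidx
  letI : CommGroup (N.map (QuotientGroup.mk' U)) :=
    { (inferInstance : Group (N.map (QuotientGroup.mk' U))) with
      mul_comm := fun a b => by
        apply Subtype.ext
        show (a : H ⧸ U) * b = b * a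
        rw [← mk_out a, ← mk_out b, ← commutatorElement_eq_one_iff_mul_comm,
          ← map_commutatorElement]
        exact (QuotientGroup.eq_one_iff _).mpr (omega_mem hN a b) }
  haveI : Fact (Nat.Prime 2) := ⟨Nat.prime_two⟩
  haveI : Fact (Nat.Prime 3) := ⟨Nat.prime_three⟩
  obtain ⟨P⟩ : Nonempty (Sylow 2 (N.map (QuotientGroup.mk' U))) := inferInstance
  obtain ⟨Q⟩ : Nonempty (Sylow 3 (N.map (QuotientGroup.mk' U))) := inferInstance
  have hP : Nat.card P = 2 ^ 2 := by
    refine P.card_eq_multiplicity.trans ?_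
    rw [hcard, show (36 : ℕ).factorization 2 = 2 by
      rw [show (36 : ℕ) = 2 ^ 2 * 9 by norm_num, Nat.factorization_mul (by norm_num) (by norm_num),
        Nat.Prime.factorization_pow Nat.prime_two, Finsupp.add_apply, Finsupp.single_eq_same,
        Nat.factorization_eq_zero_of_not_dvd (by norm_num)]]
  have hQ : Nat.card Q = 3 ^ 2 := by
    refine Q.card_eq_multiplicity.trans ?_
    rw [hcard, show (36 : ℕ).factorization 3 = 2 by
      rw [show (36 : ℕ) = 3 ^ 2 * 4 by norm_num, Nat.factorization_mul (by norm_num) (by norm_num),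
        Nat.Prime.factorization_pow Nat.prime_three, Finsupp.add_apply, Finsupp.single_eq_same,
        Nat.factorization_eq_zero_of_not_dvd (by norm_num)]]
  obtain ⟨a, b, -, hab⟩ := exists_two_gen Nat.prime_two hP
  obtain ⟨c, d, -, hcd⟩ := exists_two_gen Nat.prime_three hQ
  have gen : ∀ (R : Subgroup (N.map (QuotientGroup.mk' U))) (u v : R)
      (S : Subgroup (N.map (QuotientGroup.mk' U))),
      Subgroup.closure ({u, v} : Set R) = ⊤ → (u : N.map (QuotientGroup.mk' U)) ∈ S →
        (v : N.map (QuotientGroup.mk' U)) ∈ S → R ≤ S := by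
    intro R u v S huv hu hv r hr
    have h1 : (⊤ : Subgroup R) ≤ S.subgroupOf R := by
      rw [← huv, Subgroup.closure_le]
      rintro w (rfl | rfl)
      · exact hu
      · exact hv
    exact h1 (Subgroup.mem_top ⟨r, hr⟩)
  set x : N.map (QuotientGroup.mk' U) := a * c
  set y : N.map (QuotientGroup.mk' U) := b * d
  have p4 : ∀ r : P, (r : N.map (QuotientGroup.mk' U)) ^ 4 = 1 := fun r => by
    have h : r ^ Nat.card (P : Subgroup (N.map (QuotientGroup.mk' U))) = 1 := pow_card_eq_one'
    rw [hP] at h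
    exact congrArg Subtype.val h
  have p9 : ∀ r : Q, (r : N.map (QuotientGroup.mk' U)) ^ 9 = 1 := fun r => by
    have h : r ^ Nat.card (Q : Subgroup (N.map (QuotientGroup.mk' U))) = 1 := pow_card_eq_one'
    rw [hQ] at h
    exact congrArg Subtype.val h
  set S := Subgroup.closure ({x, y} : Set (N.map (QuotientGroup.mk' U)))
  have split : ∀ (u : P) (v : Q), ((u : N.map (QuotientGroup.mk' U)) * v) ∈ S →
      (u : N.map (QuotientGroup.mk' U)) ∈ S ∧ (v : N.map (QuotientGroup.mk' U)) ∈ S := by
    intro u v huv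
    have h1 : (u : N.map (QuotientGroup.mk' U)) ∈ S := by
      have h := S.pow_mem huv 9
      rw [mul_pow, p9 v, mul_one, show (9 : ℕ) = 4 + 4 + 1 by norm_num, pow_succ, pow_add, p4 u,
        one_mul, one_mul] at h
      exact h
    refine ⟨h1, ?_⟩
    have := S.mul_mem (S.inv_mem h1) huv
    rwa [inv_mul_cancel_left] at this
  have hx : x ∈ S := Subgroup.subset_closure (Set.mem_insert _ _)
  have hy : y ∈ S := Subgroup.subset_closure (Set.mem_insert_of_mem x rfl)
  have hPS := gen _ a b S hab (split a c hx).1 (split b d hy).1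
  have hQS := gen _ c d S hcd (split a c hx).2 (split b d hy).2
  have htop : S = ⊤ := by
    refine Subgroup.eq_top_of_card_eq _ (Nat.dvd_antisymm S.card_subgroup_dvd_card ?_)
    rw [hcard]
    exact (Nat.Coprime.mul_dvd_of_dvd_of_dvd (by norm_num) (hP ▸ Subgroup.card_dvd_of_le hPS)
      (hQ ▸ Subgroup.card_dvd_of_le hQS) : 2 ^ 2 * 3 ^ 2 ∣ Nat.card S)
  refine (relIndex_le_card hN (T := N.map (QuotientGroup.mk' U) × N.map (QuotientGroup.mk' U))
    (fun g => (secMap hN g x, secMap hN g y)) fun g h e => ?_).trans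
      (by rw [Nat.card_prod, hcard, pow_two])
  refine detect_of_closure hN htop ((Subgroup.centralizer _).mul_mem
    ((Subgroup.centralizer _).inv_mem g.2) h.2) fun z hz => ?_
  rcases hz with rfl | rfl
  · exact inv_mul_fix hN (congrArg Prod.fst e)
  · exact inv_mul_fix hN (congrArg Prod.snd e)

end Cfsg.Agent.K94
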