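import Cfsg.Agent.K94.Arith
import Cfsg.Agent.K94.Count
import Cfsg.Agent.K94.Lift
import Cfsg.Agent.K94.SecCR

/-!
# Sections filling the whole dimension over the prime field
-/

set_option autoImplicit false
set_option linter.style.haveILetI false

namespace Cfsg.Agent.K94

open Cfsg.Agent.BC85 Cfsg.Agent.BC85.BaseTwo
open scoped commutatorElement

/-- A prime section order divides the order of the scalars. -/
theorem dvd_card_scalars {H : Type} [Group H] [Finite H] {U : Subgroup H} [U.Normal] {N : Subgroup H}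
    (hN : IsSec U N) {q j : ℕ} [Fact q.Prime] (hq : U.relIndex N = q ^ j) :
    q ∣ Nat.card U := by
  obtain ⟨x, hx⟩ : ∃ x : N.map (QuotientGroup.mk' U), x ≠ 1 := by
    by_contra h
    push Not at h
    haveI : Subsingleton (N.map (QuotientGroup.mk' U)) := ⟨fun a b => (h a).trans (h b).symm⟩
    have h1 : Nat.card (N.map (QuotientGroup.mk' U)) = 1 := Nat.card_unique
    rw [card_section] at h1
    exact hN.ne (le_antisymm (Subgroup.relIndex_eq_one.mp h1) hN.le)
  obtain ⟨y, hy⟩ := omega_nondeg hN hx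
  let φ : N.map (QuotientGroup.mk' U) →* U :=
    MonoidHom.mk' (fun y => ⟨omega U N x y, omega_mem hN x y⟩) fun a b =>
      Subtype.ext (omega_mul_right hN x a b)
  have h1 : φ y ^ q = 1 := by rw [← map_pow, sec_exponent hN hq y, map_one]
  rw [← orderOf_eq_prime h1 fun h => hy (congrArg Subtype.val h)]
  exact orderOf_dvd_natCard (φ y)

/-- A lift of prime order modulo the scalars outside the section. -/
theorem exists_coprime_lift {H : Type} [Group H] [Finite H] {U : Subgroup H} [U.Normal]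
    {N : Subgroup H} (hN : IsSec U N) (hC : Subgroup.centralizer (U : Set H) = ⊤) {q j : ℕ}
    [Fact q.Prime] (hq : U.relIndex N = q ^ j) (hne : N ≠ ⊤) :
    ∃ (t : H) (l : ℕ), l.Prime ∧ l ≠ q ∧ t ∉ N ∧ t ^ l ∈ U := by
  haveI := hN.normal
  obtain ⟨l, hl, hlq, hdvd⟩ : ∃ l : ℕ, l.Prime ∧ l ≠ q ∧ l ∣ N.index := by
    by_contra hno
    push Not at hno
    apply hne
    refine top_le_of_pgroup hN hC hq fun g => ?_
    have h0 : N.index ≠ 0 := Subgroup.index_ne_zero_of_finite
    have hpow : N.index = q ^ N.index.primeFactorsList.length :=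
      Nat.eq_prime_pow_of_unique_prime_dvd h0 fun {d} hd hdd => by
        by_contra hne'
        exact hno d hd hne' hdd
    refine ⟨N.index.primeFactorsList.length, ?_⟩
    rw [← hpow]
    exact N.pow_index_mem g
  haveI : Fact l.Prime := ⟨hl⟩
  obtain ⟨x, hx⟩ := exists_prime_orderOf_dvd_card' (G := H ⧸ U) l (by
    rw [← Subgroup.index_eq_card, ← Subgroup.relIndex_mul_index hN.le]
    exact hdvd.mul_left _)
  obtain ⟨t, rfl⟩ := QuotientGroup.mk'_surjective U x
  refine ⟨t, l, hl, hlq, fun ht => ?_, ?_⟩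
  · have h1 : orderOf (⟨_, Subgroup.mem_map_of_mem (QuotientGroup.mk' U) ht⟩ :
        N.map (QuotientGroup.mk' U)) = l := by rw [← hx, ← Subgroup.orderOf_coe]
    have h2 := orderOf_dvd_natCard (⟨_, Subgroup.mem_map_of_mem (QuotientGroup.mk' U) ht⟩ :
        N.map (QuotientGroup.mk' U))
    rw [h1, card_section, hq] at h2
    exact hlq ((Nat.prime_dvd_prime_iff_eq hl Fact.out).mp (hl.dvd_of_dvd_pow h2))
  · rw [← QuotientGroup.eq_one_iff (N := U)]
    show QuotientGroup.mk' U (t ^ l) = 1
    rw [map_pow, ← hx, pow_orderOf_eq_one]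

/-- Outside a normal subgroup of index at least three there are two classes. -/
theorem exists_other {H : Type} [Group H] [Finite H] (N : Subgroup H) [N.Normal] {t : H} (ht : t ∉ N)
    (h3 : 3 ≤ N.index) :
    ∃ w : H, w ∉ N ∧ ¬ IsConj (QuotientGroup.mk' N t) (QuotientGroup.mk' N w) := by
  by_contra hno
  push Not at hno
  set x := QuotientGroup.mk' N t with hxdef
  have hx1 : x ≠ 1 := fun h => ht ((QuotientGroup.eq_one_iff t).mp h)
  have hset : conjugatesOf x = {y | y ≠ 1} := by
    ext y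
    refine ⟨fun h hy => hx1 (isConj_one_left.mp (hy ▸ h)), fun hy => ?_⟩
    obtain ⟨w, rfl⟩ := QuotientGroup.mk'_surjective N y
    exact hno w fun hw => hy ((QuotientGroup.eq_one_iff w).mpr hw)
  have hcard : (conjugatesOf x).ncard + 1 = N.index := by
    rw [hset, Subgroup.index_eq_card, show {y : H ⧸ N | y ≠ 1} = {1}ᶜ from rfl, Set.ncard_compl,
      Set.ncard_singleton]
    have : 0 < Nat.card (H ⧸ N) := Nat.card_pos
    omega
  have hdvd : (conjugatesOf x).ncard ∣ N.index := by
    rw [Subgroup.index_eq_card, show conjugatesOf x = MulAction.orbit (ConjAct (H ⧸ N)) x from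
      (ConjAct.orbit_eq_carrier_conjClasses x).symm, ← MulAction.index_stabilizer]
    exact (Subgroup.index_dvd_card _).trans (dvd_of_eq (Nat.card_congr ConjAct.toConjAct.symm.toEquiv))
  obtain ⟨c, hc⟩ := hdvd
  rcases Nat.lt_or_ge c 2 with h | h
  · interval_cases c <;> omega
  · nlinarith

section

variable {p : ℕ} [Fact p.Prime] {H V : Type} [Group H] [Finite H] [AddCommGroup V] [Finite V]
  [DistribMulAction H V] [FaithfulSMul H V] {K : Type} [Field K] [Module K V] [SMulCommClass H K V]
  {U : Subgroup H} [U.Normal] (ι : U →* Kˣ) (hι : Function.Injective ι)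
  (hιv : ∀ (u : U) (v : V), (u : H) • v = (ι u : K) • v)

omit [Finite H] [Finite V] [U.Normal] in
theorem center_of_scalar {g : H} {c : K} (h : ∀ v : V, g • v = c • v) : g ∈ Subgroup.center H :=
  Subgroup.mem_center_iff.mpr fun y => eq_of_smul_eq_smul (α := V) fun v => by
    rw [mul_smul, mul_smul, h, h, smul_comm]

include hιv

theorem moves_det {n : ℕ} (hn : Module.finrank K V = n) [Module.Finite K V] {g : H} {u : U}
    (hu : u ∈ moves U g) (hι : Function.Injective ι) : u ^ n = 1 := by
  let L : H →* Module.End K V := DistribMulAction.toModuleEnd K V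
  obtain ⟨c, hc⟩ := isConj_iff.mp (hu : IsConj g ((u : H) * g))
  have h2 : L ((u : H) * g) = (ι u : K) • L g := LinearMap.ext fun v => by
    show ((u : H) * g) • v = (ι u : K) • (g • v)
    rw [mul_smul, hιv]
  have hne : LinearMap.det (L g) ≠ 0 := by
    intro h0
    have h1 : LinearMap.det (L g) * LinearMap.det (L g⁻¹) = 1 := by
      rw [← map_mul, ← map_mul L, mul_inv_cancel, map_one L, map_one]
    rw [h0, zero_mul] at h1
    exact zero_ne_one h1
  have h1 : LinearMap.det (L (c * g * c⁻¹)) = LinearMap.det (L g) := by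
    rw [map_mul L, map_mul L, map_mul, map_mul, mul_right_comm, ← map_mul, ← map_mul L, mul_inv_cancel,
      map_one L, map_one, one_mul]
  rw [hc, h2, LinearMap.det_smul, hn] at h1
  apply hι
  refine Units.ext ?_
  rw [map_pow, map_one, Units.val_pow_eq_pow_val, Units.val_one]
  exact mul_right_cancel₀ hne (h1.trans (one_mul _).symm)

include hι

/-- Four classes with their multiplicities. -/
theorem four_classes [Module.Finite K V] {n : ℕ} (hn : Module.finrank K V = n)
    (hc : U ≤ Subgroup.center H) {N : Subgroup H} (hN : IsSec U N) {q j : ℕ} [Fact q.Prime]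
    (hq : U.relIndex N = q ^ j) (hqn : ∀ l : ℕ, l.Prime → l ∣ n → l = q) (hn0 : 0 < n)
    (h3 : 3 ≤ N.index) :
    ∃ c₀ c₁ c₂ c₃ : ℕ, Nat.card U ≤ c₀ ∧ Nat.card U ≤ q * c₁ ∧ Nat.card U ≤ c₂ ∧
      Nat.card U ≤ n * c₃ ∧ 1 ≤ c₃ ∧ c₀ + c₁ + c₂ + c₃ ≤ Nat.card (ConjClasses H) := by
  classical
  haveI := hN.normal
  have hC : Subgroup.centralizer (U : Set H) = ⊤ := eq_top_iff.mpr fun g _ =>
    Subgroup.mem_centralizer_iff.mpr fun u hu => (Subgroup.mem_center_iff.mp (hc hu) g).symm
  have hne : N ≠ ⊤ := fun h => by rw [h, Subgroup.index_top] at h3; omega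
  obtain ⟨t, l, hl, hlq, htN, htl⟩ := exists_coprime_lift hN hC hq hne
  obtain ⟨w, hwN, hwt⟩ := exists_other N htN h3
  obtain ⟨n0, hn0N, hn0U⟩ : ∃ n0 ∈ N, n0 ∉ U := by
    by_contra h
    push Not at h
    exact hN.ne (le_antisymm h hN.le)
  have hn0q : n0 ^ q ∈ U := by
    have h := sec_exponent hN hq ⟨_, Subgroup.mem_map_of_mem (QuotientGroup.mk' U) hn0N⟩
    rw [← QuotientGroup.eq_one_iff]
    exact congrArg Subtype.val h
  let g : Fin 4 → H := ![1, n0, t, w]
  let m : Fin 4 → ℕ := ![1, q, 1, n]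
  have hdet : ∀ (x : H) (u : U), u ∈ moves U x → u ^ n = 1 := fun x u hu =>
    moves_det ι hιv hn hu hι
  have hdist : ∀ i j, IsConj (QuotientGroup.mk' U (g i)) (QuotientGroup.mk' U (g j)) → i = j := by
    intro i j hij
    let ρ : H ⧸ U →* H ⧸ N := QuotientGroup.map U N (MonoidHom.id H) hN.le
    have hρ : IsConj (QuotientGroup.mk' N (g i)) (QuotientGroup.mk' N (g j)) := ρ.map_isConj hij
    have q1 : ∀ x ∈ N, QuotientGroup.mk' N x = 1 := fun x hx => (QuotientGroup.eq_one_iff x).mpr hx
    have qt : QuotientGroup.mk' N t ≠ 1 := fun h => htN ((QuotientGroup.eq_one_iff t).mp h)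
    have qw : QuotientGroup.mk' N w ≠ 1 := fun h => hwN ((QuotientGroup.eq_one_iff w).mp h)
    have q0 : QuotientGroup.mk' U n0 ≠ 1 := fun h => hn0U ((QuotientGroup.eq_one_iff n0).mp h)
    have q10 : IsConj (1 : H ⧸ U) (QuotientGroup.mk' U n0) → False := fun h => q0 (isConj_one_right.mp h)
    fin_cases i <;> fin_cases j <;> dsimp only [g, Matrix.cons_val, Matrix.cons_val_zero, Matrix.cons_val_one, Fin.zero_eta, Fin.mk_one] at hij hρ ⊢
    all_goals try rfl
    all_goals exfalso
    · exact q10 (by rwa [map_one] at hij)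
    · exact qt (isConj_one_right.mp (by rwa [map_one] at hρ))
    · exact qw (isConj_one_right.mp (by rwa [map_one] at hρ))
    · exact q10 (by rw [map_one] at hij; exact hij.symm)
    · exact qt (isConj_one_right.mp (by rwa [q1 n0 hn0N] at hρ))
    · exact qw (isConj_one_right.mp (by rwa [q1 n0 hn0N] at hρ))
    · exact qt (isConj_one_left.mp (by rwa [map_one] at hρ))
    · exact qt (isConj_one_left.mp (by rwa [q1 n0 hn0N] at hρ))
    · exact hwt hρ
    · exact qw (isConj_one_left.mp (by rwa [map_one] at hρ))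
    · exact qw (isConj_one_left.mp (by rwa [q1 n0 hn0N] at hρ))
    · exact hwt hρ.symm
  have hmv : ∀ i, Nat.card (moves U (g i)) ≤ m i := by
    intro i
    fin_cases i
    · refine card_moves_le U ι hι one_pos fun u hu => ?_
      exact moves_pow U hc (by simp [g, U.one_mem]) hu
    · exact card_moves_le U ι hι (Fact.out : q.Prime).pos fun u hu => moves_pow U hc hn0q hu
    · refine card_moves_le U ι hι one_pos fun u hu => ?_
      have h1 : u ^ l = 1 := moves_pow U hc htl hu
      have h2 := hdet _ u hu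
      have hco : Nat.Coprime l n := (Nat.Prime.coprime_iff_not_dvd hl).mpr fun h => hlq (hqn l hl h)
      have h3' : u ^ l.gcd n = 1 := pow_gcd_eq_one.mpr ⟨h1, h2⟩
      rwa [hco] at h3'
    · exact card_moves_le U ι hι hn0 fun u hu => hdet _ u hu
  obtain ⟨c, hc1, hc2⟩ := exists_classes U hc g m hdist hmv
  have e0 := hc1 0
  have e1 := hc1 1
  have e2 := hc1 2
  have e3 := hc1 3
  simp only [m, Matrix.cons_val_zero, Matrix.cons_val_one, Matrix.head_cons, Matrix.cons_val,
    one_mul] at e0 e1 e2 e3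
  rw [Fin.sum_univ_four] at hc2
  exact ⟨c 0, c 1, c 2, c 3, e0.2, e1.2, e2.2, e3.2, e3.1, hc2⟩

end

end Cfsg.Agent.K94
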