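import Cfsg.Agent.K94.Special

/-!
# The section of order four
-/

set_option autoImplicit false
set_option linter.style.haveILetI false

namespace Cfsg.Agent.K94

open Cfsg.Agent.BC85 Cfsg.Agent.BC85.BaseTwo
open scoped commutatorElement

variable {H : Type} [Group H] [Finite H] {U : Subgroup H} [U.Normal] {N : Subgroup H}

/-- The index of the section divides six. -/
theorem index_dvd_six (hN : IsSec U N) (hC : Subgroup.centralizer (U : Set H) = ⊤)
    (hidx : U.relIndex N = 4) : N.index ∣ 6 := by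
  classical
  haveI : Fintype (N.map (QuotientGroup.mk' U)) := Fintype.ofFinite _
  let α := {x : N.map (QuotientGroup.mk' U) // x ≠ 1}
  let f : H →* Equiv.Perm α :=
    { toFun := fun g =>
        { toFun := fun x => ⟨secMap hN g x.1, secMap_ne_one hN g x.2⟩
          invFun := fun x => ⟨secMap hN g⁻¹ x.1, secMap_ne_one hN g⁻¹ x.2⟩
          left_inv := fun x => Subtype.ext (by
            show secMap hN g⁻¹ (secMap hN g x.1) = x.1
            rw [← secMap_mul, inv_mul_cancel, secMap_one])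
          right_inv := fun x => Subtype.ext (by
            show secMap hN g (secMap hN g⁻¹ x.1) = x.1
            rw [← secMap_mul, mul_inv_cancel, secMap_one]) }
      map_one' := Equiv.ext fun x => Subtype.ext (secMap_one hN x.1)
      map_mul' := fun g h => Equiv.ext fun x => Subtype.ext (secMap_mul hN g h x.1) }
  have hker : f.ker = N := by
    ext g
    rw [MonoidHom.mem_ker]
    constructor
    · intro h
      refine mem_of_secMap_id hN (hC ▸ Subgroup.mem_top g) fun x => ?_
      by_cases hx : x = 1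
      · rw [hx, map_one]
      · exact congrArg Subtype.val (Equiv.ext_iff.mp h ⟨x, hx⟩)
    · intro hg
      refine Equiv.ext fun x => Subtype.ext (Subtype.ext ?_)
      show QuotientGroup.mk' U g * (x.1 : H ⧸ U) * (QuotientGroup.mk' U g)⁻¹ = x.1
      rw [mul_inv_eq_iff_eq_mul, ← mk_out x.1, ← commutatorElement_eq_one_iff_mul_comm,
        ← map_commutatorElement]
      exact (QuotientGroup.eq_one_iff _).mpr (hN.comm g hg _ (out_mem hN _))
  rw [← hker, Subgroup.index_ker]
  refine (Subgroup.card_subgroup_dvd_card f.range).trans (dvd_of_eq ?_)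
  rw [Nat.card_perm, show Nat.card α = 3 by
    rw [Nat.card_eq_fintype_card, Fintype.card_subtype_compl, Fintype.card_subtype_eq,
      ← Nat.card_eq_fintype_card, card_section, hidx]]
  rfl

/-- Elements of order four and two modulo the scalars outside the section. -/
theorem exists_four_two (hN : IsSec U N) (hC : Subgroup.centralizer (U : Set H) = ⊤)
    (hidx : U.relIndex N = 4) (h2 : 2 ∣ N.index) :
    ∃ g h : H, g ∉ N ∧ g ^ 2 ∈ N ∧ g ^ 2 ∉ U ∧ g ^ 4 ∈ U ∧ h ∉ N ∧ h ^ 2 ∈ U := by
  haveI := hN.normal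
  haveI : Fact (Nat.Prime 2) := ⟨Nat.prime_two⟩
  obtain ⟨x, hx⟩ := exists_prime_orderOf_dvd_card' (G := H ⧸ N) 2 (Subgroup.index_eq_card N ▸ h2)
  obtain ⟨g, rfl⟩ := QuotientGroup.mk'_surjective N x
  have hgN : g ∉ N := fun h => by
    rw [show QuotientGroup.mk' N g = 1 from (QuotientGroup.eq_one_iff g).mpr h, orderOf_one] at hx
    omega
  have hg2 : g ^ 2 ∈ N := by
    rw [← QuotientGroup.eq_one_iff]
    show QuotientGroup.mk' N (g ^ 2) = 1
    rw [map_pow, ← hx, pow_orderOf_eq_one]
  letI := secCommGroup hN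
  have hexp : ∀ x : N.map (QuotientGroup.mk' U), x * x = 1 := fun x => by
    rw [← pow_two]; exact sec_exponent hN (q := 2) (j := 2) (by rw [hidx]; norm_num) x
  obtain ⟨a, ha⟩ : ∃ a, secMap hN g a ≠ a := by
    by_contra h
    push Not at h
    exact hgN (mem_of_secMap_id hN (hC ▸ Subgroup.mem_top g) h)
  let sq : N.map (QuotientGroup.mk' U) := ⟨QuotientGroup.mk' U (g ^ 2), Subgroup.mem_map_of_mem _ hg2⟩
  let w : N.map (QuotientGroup.mk' U) := secMap hN g a * a
  have htwice : secMap hN g (secMap hN g a) = a := by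
    rw [← secMap_mul]
    apply Subtype.ext
    rw [secMap_coe, mul_inv_eq_iff_eq_mul, ← pow_two]
    exact congrArg Subtype.val (mul_comm sq a)
  have hw : secMap hN g w = w := by
    simp only [w, map_mul, htwice]
    exact mul_comm _ _
  have hsq : secMap hN g sq = sq := by
    apply Subtype.ext
    rw [secMap_coe, mul_inv_eq_iff_eq_mul]
    show QuotientGroup.mk' U g * QuotientGroup.mk' U (g ^ 2) = QuotientGroup.mk' U (g ^ 2) * QuotientGroup.mk' U g
    rw [← map_mul, ← map_mul, ← pow_succ, ← pow_succ']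
  have hw1 : w ≠ 1 := fun h => ha (by
    have : secMap hN g a = a⁻¹ := eq_inv_of_mul_eq_one_left h
    rw [this, ← eq_inv_of_mul_eq_one_left (hexp a)])
  have hfix : sq = 1 ∨ sq = w := by
    by_contra hno
    push Not at hno
    let F : Subgroup (N.map (QuotientGroup.mk' U)) := (secMap hN g).eqLocus (MonoidHom.id _)
    have hF : F ≠ ⊤ := fun h => ha (h ▸ Subgroup.mem_top a : a ∈ F)
    have hF3 : 3 ≤ Nat.card F := by
      let f : Fin 3 → F := ![1, ⟨sq, hsq⟩, ⟨w, hw⟩]
      have hf : Function.Injective f := by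
        intro i j hij
        have h' := congrArg (fun z : F => (z : N.map (QuotientGroup.mk' U))) hij
        fin_cases i <;> fin_cases j <;>
          simp [f, hno.1, hno.2, hw1, Ne.symm hno.1, Ne.symm hno.2, Ne.symm hw1] at h' ⊢
      simpa using Nat.card_le_card_of_injective f hf
    have h1 := F.card_subgroup_dvd_card
    have h4 : Nat.card F ≠ 4 := fun h => hF (Subgroup.eq_top_of_card_eq _ (by
      rw [h, card_section, hidx]))
    rw [card_section, hidx] at h1
    have := Nat.le_of_dvd (by norm_num) h1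
    interval_cases h : Nat.card F <;> omega
  -- the element times a fixed-point-free point
  obtain ⟨a', ha', haa⟩ := Subgroup.mem_map.mp a.2
  have hga : g * a' ∉ N := fun h => hgN (by
    have := N.mul_mem h (N.inv_mem ha'); rwa [mul_inv_cancel_right] at this)
  have hprod : QuotientGroup.mk' U ((g * a') ^ 2) = ((sq * w : N.map (QuotientGroup.mk' U)) : H ⧸ U) := by
    rw [mul_comm sq w, show w * sq = secMap hN g a * (sq * a) by
      rw [mul_assoc]; exact congrArg _ (mul_comm a sq)]
    simp only [pow_two, map_mul, Subgroup.coe_mul, secMap_coe, sq, haa]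
    group
  have hpow : ∀ x : H, (∃ e : N.map (QuotientGroup.mk' U), QuotientGroup.mk' U (x ^ 2) = e) →
      x ^ 4 ∈ U := by
    rintro x ⟨e, he⟩
    rw [← QuotientGroup.eq_one_iff]
    show QuotientGroup.mk' U (x ^ 4) = 1
    rw [show x ^ 4 = x ^ 2 * x ^ 2 by rw [← pow_add], map_mul, he]
    exact congrArg Subtype.val (hexp e)
  have hgaN2 : (g * a') ^ 2 ∈ N := by
    obtain ⟨n, hn, hnx⟩ := Subgroup.mem_map.mp (sq * w).2
    have hd : n⁻¹ * (g * a') ^ 2 ∈ U := QuotientGroup.eq.mp (hnx.trans hprod.symm)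
    have := N.mul_mem hn (hN.le hd)
    rwa [mul_inv_cancel_left] at this
  have hsq1 : (g ^ 2 ∈ U) ↔ sq = 1 := by
    rw [← QuotientGroup.eq_one_iff (N := U), Subtype.ext_iff]
    rfl
  have hga1 : ((g * a') ^ 2 ∈ U) ↔ sq * w = 1 := by
    rw [← QuotientGroup.eq_one_iff (N := U), Subtype.ext_iff]
    show QuotientGroup.mk' U ((g * a') ^ 2) = 1 ↔ _
    rw [hprod]
    rfl
  rcases hfix with h | h
  · exact ⟨g * a', g, hga, hgaN2, fun hh => hw1 (by simpa [h] using hga1.mp hh),
      hpow _ ⟨_, hprod⟩, hgN, hsq1.mpr h⟩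
  · exact ⟨g, g * a', hgN, hg2, fun hh => hw1 (h ▸ hsq1.mp hh), hpow _ ⟨sq, rfl⟩, hga,
      hga1.mpr (by rw [h, hexp])⟩

variable {V : Type} [AddCommGroup V] [Finite V]
  [DistribMulAction H V] [FaithfulSMul H V] {K : Type} [Field K] [Module K V] [SMulCommClass H K V]
  (ι : U →* Kˣ) (hι : Function.Injective ι)
  (hιv : ∀ (u : U) (v : V), (u : H) • v = (ι u : K) • v)

include hι hιv

/-- Quotient of order twenty-four by the scalars: four times the scalars as many classes. -/
theorem classes_two [Module.Finite K V] (hn : Module.finrank K V = 2)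
    (hc : U ≤ Subgroup.center H) (hN : IsSec U N)
    (hidx : U.relIndex N = 4) (h6 : N.index = 6) :
    4 * Nat.card U ≤ Nat.card (ConjClasses H) := by
  classical
  haveI := hN.normal
  haveI : Fact (Nat.Prime 2) := ⟨Nat.prime_two⟩
  have hC : Subgroup.centralizer (U : Set H) = ⊤ := eq_top_iff.mpr fun g _ =>
    Subgroup.mem_centralizer_iff.mpr fun u hu => (Subgroup.mem_center_iff.mp (hc hu) g).symm
  have hq : U.relIndex N = 2 ^ 2 := by rw [hidx]; norm_num
  have hne : N ≠ ⊤ := fun h => by rw [h, Subgroup.index_top] at h6; omega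
  obtain ⟨t, l, hl, hl2, htN, htl⟩ := exists_coprime_lift hN hC hq hne
  obtain ⟨g, h, hgN, hg2, hg2U, hg4, hhN, hh2⟩ := exists_four_two hN hC hidx (by rw [h6]; norm_num)
  obtain ⟨n0, hn0N, hn0U⟩ : ∃ n0 ∈ N, n0 ∉ U := by
    by_contra hh
    push Not at hh
    exact hN.ne (le_antisymm hh hN.le)
  have hn02 : n0 ^ 2 ∈ U := by
    have hh := sec_exponent hN hq ⟨_, Subgroup.mem_map_of_mem (QuotientGroup.mk' U) hn0N⟩
    rw [← QuotientGroup.eq_one_iff]
    exact congrArg Subtype.val hh
  -- squares mod the section and mod the scalars separate the images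
  have hinv : ∀ x y : H, IsConj (QuotientGroup.mk' U x) (QuotientGroup.mk' U y) →
      ((x ∈ N ↔ y ∈ N) ∧ (x ^ 2 ∈ N ↔ y ^ 2 ∈ N) ∧ (x ^ 2 ∈ U ↔ y ^ 2 ∈ U) ∧ (x ∈ U ↔ y ∈ U)) := by
    intro x y hxy
    obtain ⟨c, hc'⟩ := isConj_iff.mp hxy
    obtain ⟨c, rfl⟩ := QuotientGroup.mk'_surjective U c
    rw [← map_inv, ← map_mul, ← map_mul] at hc'
    have hd : (c * x * c⁻¹)⁻¹ * y ∈ U := QuotientGroup.eq.mp hc'
    have mem : ∀ (M : Subgroup H), M.Normal → U ≤ M → ∀ z w : H, z⁻¹ * w ∈ U → (z ∈ M ↔ w ∈ M) := by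
      intro M _ hUM z w hzw
      constructor
      · intro hz; have := M.mul_mem hz (hUM hzw); rwa [mul_inv_cancel_left] at this
      · intro hw; have := M.mul_mem hw (M.inv_mem (hUM hzw))
        rwa [mul_inv_rev, inv_inv, mul_inv_cancel_left] at this
    have hcx : ∀ (M : Subgroup H), M.Normal → ∀ z : H, c * z * c⁻¹ ∈ M ↔ z ∈ M := by
      intro M hM z
      refine ⟨fun hz => ?_, fun hz => hM.conj_mem z hz c⟩
      simpa [mul_assoc] using hM.conj_mem _ hz c⁻¹
    have hd2 : ((c * x * c⁻¹) ^ 2)⁻¹ * y ^ 2 ∈ U := by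
      apply QuotientGroup.eq.mp
      show QuotientGroup.mk' U ((c * x * c⁻¹) ^ 2) = QuotientGroup.mk' U (y ^ 2)
      rw [map_pow, map_pow, hc']
    rw [conj_pow] at hd2
    exact ⟨(hcx N hN.normal x).symm.trans (mem N hN.normal hN.le _ _ hd),
      (hcx N hN.normal _).symm.trans (mem N hN.normal hN.le _ _ hd2),
      (hcx U inferInstance _).symm.trans (mem U inferInstance le_rfl _ _ hd2),
      (hcx U inferInstance x).symm.trans (mem U inferInstance le_rfl _ _ hd)⟩
  have ht2 : t ^ 2 ∉ N := by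
    intro ht2
    obtain ⟨c, hc'⟩ : Odd l := hl.odd_of_ne_two hl2
    have h1 : (t ^ 2) ^ c * t ∈ N := by
      rw [← pow_mul, ← pow_succ, ← hc']
      exact hN.le htl
    have h2 := N.mul_mem (N.inv_mem (N.pow_mem ht2 c)) h1
    rw [inv_mul_cancel_left] at h2
    exact htN h2
  let gs : Fin 5 → H := ![1, n0, t, g, h]
  let m : Fin 5 → ℕ := ![1, 2, 1, 1, 2]
  have hdist : ∀ i j, IsConj (QuotientGroup.mk' U (gs i)) (QuotientGroup.mk' U (gs j)) → i = j := by
    intro i j hij
    obtain ⟨a1, a2, a3, a4⟩ := hinv _ _ hij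
    fin_cases i <;> fin_cases j <;>
      simp [gs, N.one_mem, U.one_mem, hn0N, hn0U, htN, ht2, hgN, hg2, hg2U, hhN, hh2] at a1 a2 a3 a4 ⊢
    all_goals exact absurd (hN.le hh2) (by simp_all)
  have hdet : ∀ (x : H) (u : U), u ∈ moves U x → u ^ 2 = 1 := fun x u hu =>
    moves_det ι hιv hn hu hι
  have hmv : ∀ i, Nat.card (moves U (gs i)) ≤ m i := by
    intro i
    fin_cases i
    · refine card_moves_le U ι hι one_pos fun u hu => ?_
      exact moves_pow U hc (by simp [gs, U.one_mem]) hu
    · exact card_moves_le U ι hι two_pos fun u hu => hdet _ u hu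
    · refine card_moves_le U ι hι one_pos fun u hu => ?_
      have h1 : u ^ l = 1 := moves_pow U hc htl hu
      have hco : Nat.Coprime l 2 := (Nat.coprime_primes hl Nat.prime_two).mpr hl2
      have h3' : u ^ l.gcd 2 = 1 := pow_gcd_eq_one.mpr ⟨h1, hdet _ u hu⟩
      rwa [hco] at h3'
    · refine card_moves_le U ι hι one_pos fun u hu => ?_
      show u ^ 1 = 1
      rw [pow_one]
      by_contra hu1
      have hne : ι u ≠ 1 := fun e => hu1 (hι (e.trans (map_one ι).symm))
      obtain ⟨c, hc'⟩ := sq_scalar U hn ι hιv hu hne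
      have hcen : g ^ 2 ∈ Subgroup.center H := center_of_scalar (K := K) (V := V) fun v => by
        rw [pow_two, mul_smul]; exact hc' v
      exact hg2U (hN.centre _ (hC ▸ Subgroup.mem_top _) fun y _ => (Subgroup.mem_center_iff.mp hcen y).symm)
    · exact card_moves_le U ι hι two_pos fun u hu => hdet _ u hu
  obtain ⟨c, hc1, hc2⟩ := exists_classes U hc gs m hdist hmv
  have e0 := (hc1 0).2
  have e1 := (hc1 1).2
  have e2 := (hc1 2).2
  have e3 := (hc1 3).2
  have e4 := (hc1 4).2
  simp only [m, Matrix.cons_val_zero, Matrix.cons_val_one, Matrix.cons_val, one_mul] at e0 e1 e2 e3 e4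
  rw [Fin.sum_univ_five] at hc2
  omega

end Cfsg.Agent.K94
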